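import Groth.Agent.FlatCrit65.ReducedGenFree
import Mathlib.RingTheory.RingHom.Flat
import Mathlib.RingTheory.RingHom.FinitePresentation
import Mathlib.RingTheory.Localization.BaseChange
import Mathlib.AlgebraicGeometry.Morphisms.Flat
import Mathlib.AlgebraicGeometry.Morphisms.FinitePresentation
import Mathlib.AlgebraicGeometry.Morphisms.FiniteType
import Mathlib.AlgebraicGeometry.Properties

/-!
Generic flatness over reduced bases, for morphisms of finite type.
-/

universe u

open TensorProduct CategoryTheory AlgebraicGeometry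

namespace Groth.Agent.FlatCrit65

/-- Generic flatness for a finite type ring map: some nonzero multiple `g` of `f₀` such that
inverting any multiple of `g` makes the map flat and finitely presented. -/
theorem exists_flat_fp_away {A B : Type u} [CommRing A] [CommRing B] (φ : A →+* B) (hφ : φ.FiniteType)
    {f₀ : A} (hf₀ : f₀ ≠ 0) :
    ∃ g : A, g ≠ 0 ∧ f₀ ∣ g ∧ ∀ g' : A, g ∣ g' →
      ∀ (A' B' : Type u) [CommRing A'] [CommRing B'] [Algebra A A'] [Algebra B B']
        [IsLocalization.Away g' A'] [IsLocalization.Away (φ g') B'],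
        (IsLocalization.Away.map A' B' φ g').Flat ∧ (IsLocalization.Away.map A' B' φ g').FinitePresentation := by
  algebraize [φ]
  obtain ⟨g, hg, hdvd, hfree, -, hfp, -⟩ := generic_freeness_mul (R := A) (S := B) (M := B) hf₀
  refine ⟨g, hg, hdvd, ?_⟩
  intro g' hgg' A' B' _ _ _ _ _ _
  have hu : IsUnit (algebraMap A A' g) := by
    obtain ⟨c, rfl⟩ := hgg'
    exact isUnit_of_mul_isUnit_left (y := algebraMap A A' c)
      (by rw [← map_mul]; exact IsLocalization.Away.algebraMap_isUnit _)
  letI : Algebra A' B' := (IsLocalization.Away.map A' B' φ g').toAlgebra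
  letI : Algebra A B' := ((algebraMap B B').comp (algebraMap A B)).toAlgebra
  have : IsScalarTower A B B' := IsScalarTower.of_algebraMap_eq' rfl
  have : IsScalarTower A A' B' := IsScalarTower.of_algebraMap_eq fun a => by
    rw [RingHom.algebraMap_toAlgebra (IsLocalization.Away.map A' B' φ g'), IsLocalization.Away.map,
      IsLocalization.map_eq]
    rfl
  have : IsLocalization (Algebra.algebraMapSubmonoid B (Submonoid.powers g')) B' := by
    rw [show Algebra.algebraMapSubmonoid B (Submonoid.powers g') = Submonoid.powers (φ g') from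
      Submonoid.map_powers (algebraMap A B) g']
    infer_instance
  have : Algebra.IsPushout A A' B B' :=
    have : Algebra.IsPushout A B A' B' := Algebra.isPushout_of_isLocalization (Submonoid.powers g') _ _ _
    this.symm
  let e := Algebra.IsPushout.equiv A A' B B'
  have h1 : Module.Flat A' B' := by
    have : Module.Free A' (A' ⊗[A] B) := hfree A' hu
    exact Module.Flat.of_linearEquiv e.symm.toLinearEquiv
  let ψ : Localization.Away g →+* A' := IsLocalization.Away.lift g hu
  letI := ψ.toAlgebra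
  have : IsScalarTower A (Localization.Away g) A' := IsScalarTower.of_algebraMap_eq fun a =>
    (IsLocalization.Away.lift_eq g hu a).symm
  have h2 : Algebra.FinitePresentation A' B' := by
    have : Algebra.FinitePresentation A' (A' ⊗[Localization.Away g] (Localization.Away g ⊗[A] B)) :=
      inferInstance
    exact Algebra.FinitePresentation.equiv
      ((Algebra.TensorProduct.cancelBaseChange A (Localization.Away g) A' A' B).trans e)
  exact ⟨h1, h2⟩

open AlgebraicGeometry in
theorem ι_image_preimage {X : Scheme.{u}} {U V : X.Opens} (h : V ≤ U) : U.ι ''ᵁ U.ι ⁻¹ᵁ V = V := by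
  rw [Scheme.Hom.image_preimage_eq_opensRange_inf, Scheme.Opens.opensRange_ι, inf_eq_right]
  exact h

open AlgebraicGeometry in
theorem of_restrict_iSup (P : MorphismProperty Scheme.{u}) [IsZariskiLocalAtTarget P] {X S : Scheme.{u}}
    (f : X ⟶ S) {ι : Type*} (V : ι → S.Opens) (h : ∀ i, P (f ∣_ V i)) : P (f ∣_ ⨆ i, V i) := by
  rw [IsZariskiLocalAtTarget.iff_of_iSup_eq_top (P := P) (fun i => (⨆ i, V i).ι ⁻¹ᵁ V i) (by
    apply (⨆ i, V i).ι.image_injective
    dsimp only
    rw [Scheme.Hom.image_iSup, Scheme.Opens.ι_image_top]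
    simp [Scheme.Hom.image_preimage_eq_opensRange_inf, le_iSup V])]
  intro i
  rw [P.arrow_mk_iso_iff (morphismRestrictRestrict f _ _),
    P.arrow_mk_iso_iff (morphismRestrictEq f
      (show (⨆ i, V i).ι ''ᵁ (⨆ i, V i).ι ⁻¹ᵁ V i = V i from
        ι_image_preimage (le_iSup V i)))]
  exact h i

set_option backward.isDefEq.respectTransparency false in
open AlgebraicGeometry in
/-- Generic flatness over a reduced base. -/
theorem exists_dense_flat_lfp {X S : Scheme.{u}} (f : X ⟶ S) [IsReduced S] [LocallyOfFiniteType f]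
    [QuasiCompact f] :
    ∃ U : S.Opens, Dense (U : Set S) ∧ Flat (f ∣_ U) ∧ LocallyOfFinitePresentation (f ∣_ U) := by
  classical
  let P : S.Opens → Prop := fun V => Flat (f ∣_ V) ∧ LocallyOfFinitePresentation (f ∣_ V)
  let ι := {V : S.Opens // P V}
  refine ⟨⨆ V : ι, V.1, ?_, ?_, ?_⟩
  · rw [dense_iff_inter_open]
    intro O hO hne
    obtain ⟨x, hx⟩ := hne
    obtain ⟨_, ⟨W, hW, rfl⟩, hxW, hWO⟩ :=
      S.isBasis_affineOpens.exists_subset_of_mem_open hx hO
    have : Nonempty W := ⟨⟨x, hxW⟩⟩
    have hnt : Nontrivial Γ(S, W) := inferInstance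
    obtain ⟨s, hs, hsc⟩ := (isCompact_iff_finite_and_eq_biUnion_affineOpens).mp
      (f.isCompact_preimage hW.isCompact)
    have hsW : ∀ U ∈ s, (U : X.affineOpens).1 ≤ f ⁻¹ᵁ W := fun U hU =>
      hsc ▸ le_iSup₂ (f := fun (i : X.affineOpens) (_ : i ∈ s) => i.1) U hU
    obtain ⟨g, hg0, hg⟩ : ∃ g : Γ(S, W), g ≠ 0 ∧ ∀ (U : X.affineOpens) (hU : U ∈ s),
        ∀ g', g ∣ g' → ∀ (A' B' : Type u) [CommRing A'] [CommRing B'] [Algebra Γ(S, W) A']
        [Algebra Γ(X, U.1) B'] [IsLocalization.Away g' A']
        [IsLocalization.Away ((f.appLE W U.1 (hsW U hU)).hom g') B'],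
        (IsLocalization.Away.map A' B' (f.appLE W U.1 (hsW U hU)).hom g').Flat ∧
        (IsLocalization.Away.map A' B' (f.appLE W U.1 (hsW U hU)).hom g').FinitePresentation := by
      suffices ∀ t : Finset X.affineOpens, (∀ U ∈ t, U ∈ s) → ∃ g : Γ(S, W), g ≠ 0 ∧
          ∀ (U : X.affineOpens) (hU : U ∈ s), U ∈ t →
          ∀ g', g ∣ g' → ∀ (A' B' : Type u) [CommRing A'] [CommRing B'] [Algebra Γ(S, W) A']
          [Algebra Γ(X, U.1) B'] [IsLocalization.Away g' A']
          [IsLocalization.Away ((f.appLE W U.1 (hsW U hU)).hom g') B'],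
          (IsLocalization.Away.map A' B' (f.appLE W U.1 (hsW U hU)).hom g').Flat ∧
          (IsLocalization.Away.map A' B' (f.appLE W U.1 (hsW U hU)).hom g').FinitePresentation by
        obtain ⟨g, hg0, hg⟩ := this hs.toFinset fun U hU => hs.mem_toFinset.mp hU
        exact ⟨g, hg0, fun U hU => hg U hU (hs.mem_toFinset.mpr hU)⟩
      intro t
      induction t using Finset.induction with
      | empty => exact fun _ => ⟨1, one_ne_zero, fun U _ hU => absurd hU (Finset.notMem_empty U)⟩
      | insert U₀ t _ ih =>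
        intro ht
        obtain ⟨g₀, hg₀, h₀⟩ := ih fun U hU => ht U (Finset.mem_insert_of_mem hU)
        have hU₀ := ht U₀ (Finset.mem_insert_self _ _)
        obtain ⟨g, hg, hdvd, hg'⟩ := exists_flat_fp_away (f.appLE W U₀.1 (hsW U₀ hU₀)).hom
          (LocallyOfFiniteType.finiteType_appLE f hW U₀.2 _) hg₀
        refine ⟨g, hg, fun U hU hUt g' hgg' => ?_⟩
        rcases Finset.mem_insert.mp hUt with rfl | hUt
        · exact hg' g' hgg'
        · exact h₀ U hU hUt g' (hdvd.trans hgg')
    have hD : IsAffineOpen (S.basicOpen g) := hW.basicOpen g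
    have hne' : S.basicOpen g ≠ ⊥ := fun h => hg0 ((basicOpen_eq_bot_iff g).mp h)
    obtain ⟨y, hy⟩ := (TopologicalSpace.Opens.ne_bot_iff_nonempty _).mp hne'
    have hmain : ∀ (Q : MorphismProperty Scheme.{u}) {q : ∀ {R T : Type u} [CommRing R] [CommRing T], (R →+* T) → Prop}
        [HasRingHomProperty Q q],
        (∀ (U : X.affineOpens) (hU : U ∈ s),
          letI := hW.isLocalization_basicOpen g
          letI := U.2.isLocalization_basicOpen ((f.appLE W U.1 (hsW U hU)).hom g)
          q (IsLocalization.Away.map Γ(S, S.basicOpen g) Γ(X, X.basicOpen ((f.appLE W U.1 (hsW U hU)).hom g))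
            (f.appLE W U.1 (hsW U hU)).hom g)) → Q (f ∣_ S.basicOpen g) := by
      intro Q q _ hq
      have : IsAffine (S.basicOpen g).toScheme := hD
      have hle : ∀ (U : X.affineOpens) (hU : U ∈ s),
          X.basicOpen ((f.appLE W U.1 (hsW U hU)).hom g) ≤ f ⁻¹ᵁ S.basicOpen g := fun U hU => by
        rw [Scheme.Hom.appLE, CommRingCat.hom_comp, RingHom.comp_apply, Scheme.basicOpen_res,
          Scheme.preimage_basicOpen]
        exact inf_le_right
      let V : {U // U ∈ s} → (f ⁻¹ᵁ S.basicOpen g).toScheme.affineOpens := fun U =>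
        ⟨(f ⁻¹ᵁ S.basicOpen g).ι ⁻¹ᵁ X.basicOpen ((f.appLE W U.1.1 (hsW _ U.2)).hom g),
          (Scheme.Hom.isAffineOpen_iff_of_isOpenImmersion (f ⁻¹ᵁ S.basicOpen g).ι).mp (by
            rw [ι_image_preimage (hle _ U.2)]
            exact U.1.2.basicOpen _)⟩
      refine HasRingHomProperty.of_iSup_eq_top (P := Q) V ?_ fun U => ?_
      · rw [eq_top_iff]
        rintro ⟨z, hz⟩ -
        have : z ∈ f ⁻¹ᵁ W := S.basicOpen_le g hz
        rw [hsc] at this
        simp only [TopologicalSpace.Opens.mem_iSup] at this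
        obtain ⟨U, hU, hzU⟩ := this
        refine TopologicalSpace.Opens.mem_iSup.mpr ⟨⟨U, hU⟩, ?_⟩
        show z ∈ X.basicOpen _
        rw [Scheme.Hom.appLE, CommRingCat.hom_comp, RingHom.comp_apply, Scheme.basicOpen_res]
        exact ⟨hzU, by rw [← Scheme.preimage_basicOpen]; exact hz⟩
      · show q ((f ∣_ S.basicOpen g).appLE ⊤ ((f ⁻¹ᵁ S.basicOpen g).ι ⁻¹ᵁ
          X.basicOpen ((f.appLE W U.1.1 (hsW _ U.2)).hom g)) le_top).hom
        erw [morphismRestrict_appLE,
          f.appLE_congr _ (S.basicOpen g).ι_image_top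
            (ι_image_preimage (hle _ U.2)) (fun φ => q φ.hom),
          IsAffineOpen.appLE_eq_away_map f hW U.1.2 (hsW _ U.2) g]
        exact hq _ U.2
    refine ⟨y, hWO (S.basicOpen_le g hy), TopologicalSpace.Opens.mem_iSup.mpr ⟨⟨S.basicOpen g, ?_⟩, hy⟩⟩
    have := hW.isLocalization_basicOpen g
    refine ⟨hmain @Flat fun U hU => ?_, hmain @LocallyOfFinitePresentation fun U hU => ?_⟩
    · have := U.2.isLocalization_basicOpen ((f.appLE W U.1 (hsW U hU)).hom g)
      exact (hg U hU g dvd_rfl _ _).1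
    · have := U.2.isLocalization_basicOpen ((f.appLE W U.1 (hsW U hU)).hom g)
      exact (hg U hU g dvd_rfl _ _).2
  · exact of_restrict_iSup (X := X) (S := S) @Flat.{u} f (fun V : ι => V.1) fun V => V.2.1
  · exact of_restrict_iSup (X := X) (S := S) @LocallyOfFinitePresentation.{u} f (fun V : ι => V.1) fun V => V.2.2

end Groth.Agent.FlatCrit65
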