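import Groth.Agent.FlatCrit65.Basic
import Mathlib.RingTheory.LocalRing.ResidueField.Basic
import Mathlib.LinearAlgebra.Basis.VectorSpace

/-!
Maps into flat modules which are injective modulo the maximal ideal.
-/

set_option linter.style.haveILetI false

universe u

open TensorProduct

namespace Groth.Agent.FlatCrit65

variable {R : Type u} [CommRing R] {M : Type u} [AddCommGroup M] [Module R M]

lemma one_tmul_eq_zero_iff (J : Ideal R) (x : M) :
    ((1 : R ⧸ J) ⊗ₜ[R] x = 0) ↔ x ∈ J • (⊤ : Submodule R M) := by
  rw [← (TensorProduct.quotTensorEquivQuotSMul M J).map_eq_zero_iff,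
    TensorProduct.quotTensorEquivQuotSMul_mk_one_tmul, Submodule.Quotient.mk_eq_zero]

section

variable {N : Type u} [AddCommGroup N] [Module R N]

/-- If `u ⊗ A` is injective, so is `u ⊗ V` for any flat `A`-module `V`. -/
lemma lTensor_injective_of_flat_over (A : Type u) [CommRing A] [Algebra R A]
    (V : Type u) [AddCommGroup V] [Module R V] [Module A V] [IsScalarTower R A V]
    [Module.Flat A V] (f : N →ₗ[R] M) (hf : Function.Injective (f.lTensor A)) :
    Function.Injective (f.lTensor V) := by
  have h : Function.Injective ((f.baseChange A).lTensor V) :=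
    Module.Flat.lTensor_preserves_injective_linearMap _ hf
  have key : ∀ x : V ⊗[A] (A ⊗[R] N),
      f.lTensor V (AlgebraTensorModule.cancelBaseChange R A A V N x) =
      AlgebraTensorModule.cancelBaseChange R A A V M ((f.baseChange A).lTensor V x) := by
    intro x
    induction x with
    | zero => simp
    | add a b ha hb => simp [map_add, ha, hb]
    | tmul p y =>
      induction y with
      | zero => simp
      | add a b ha hb => simp [tmul_add, map_add, ha, hb]
      | tmul a m => simp
  rw [injective_iff_map_eq_zero]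
  intro x hx
  obtain ⟨x, rfl⟩ := (AlgebraTensorModule.cancelBaseChange R A A V N).surjective x
  rw [key, LinearEquiv.map_eq_zero_iff] at hx
  rw [(injective_iff_map_eq_zero _).mp h x hx, map_zero]

/-- If `u` is injective modulo a maximal ideal `m` and `M` is flat, then `u ⁻¹ (I M)` is contained
in `I N + m ^ k N`. -/
lemma mem_sup_pow [Module.Flat R M] (m : Ideal R) [m.IsMaximal] (f : N →ₗ[R] M)
    (hf : Function.Injective (f.lTensor (R ⧸ m))) (I : Ideal R) {n : N}
    (hn : f n ∈ I • (⊤ : Submodule R M)) (k : ℕ) :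
    n ∈ I • (⊤ : Submodule R N) ⊔ m ^ k • ⊤ := by
  induction k with
  | zero => simp
  | succ k ih =>
    obtain ⟨a, ha, b, hb, rfl⟩ := Submodule.mem_sup.mp ih
    set J : Ideal R := I ⊔ m ^ (k + 1) with hJ
    let V : Submodule R (R ⧸ J) := Submodule.map J.mkQ (m ^ k)
    have hV : Module.IsTorsionBySet R V m := by
      rintro ⟨_, y, hy, rfl⟩ c
      refine Subtype.ext ((Submodule.Quotient.mk_eq_zero _).mpr ?_)
      show (c : R) * y ∈ J
      refine Submodule.mem_sup_right ?_
      rw [pow_succ']
      exact Ideal.mul_mem_mul c.2 hy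
    have hb' : (1 : R ⧸ J) ⊗ₜ[R] b ∈ LinearMap.range (V.subtype.rTensor N) := by
      refine Submodule.smul_induction_on hb (fun c hc y _ => ?_) (fun x y hx hy => ?_)
      · refine ⟨(⟨J.mkQ c, Submodule.mem_map_of_mem hc⟩ : V) ⊗ₜ[R] y, ?_⟩
        rw [LinearMap.rTensor_tmul, ← smul_tmul]
        congr 1
        show Ideal.Quotient.mk J c = c • 1
        rw [Algebra.smul_def, mul_one]; rfl
      · rw [tmul_add]; exact add_mem hx hy
    obtain ⟨ξ, hξ⟩ := hb'
    have hfb : f b ∈ J • (⊤ : Submodule R M) := by
      have h1 : f a ∈ I • (⊤ : Submodule R M) := by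
        have := Submodule.mem_map_of_mem (f := f) ha
        rw [Submodule.map_smul''] at this
        exact Submodule.smul_mono le_rfl le_top this
      have h2 : f b ∈ I • (⊤ : Submodule R M) := by
        have := sub_mem hn h1
        rwa [map_add, add_sub_cancel_left] at this
      exact Submodule.smul_mono le_sup_left le_rfl h2
    letI : Field (R ⧸ m) := Ideal.Quotient.field m
    letI : Module (R ⧸ m) V := hV.module
    haveI : IsScalarTower R (R ⧸ m) V := hV.isScalarTower
    haveI : Module.Free (R ⧸ m) V := Module.Free.of_divisionRing _ _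
    have h0 : f.lTensor V ξ = 0 := by
      apply Module.Flat.rTensor_preserves_injective_linearMap (M := M) V.subtype V.injective_subtype
      rw [map_zero, ← LinearMap.comp_apply, LinearMap.rTensor_comp_lTensor,
        ← LinearMap.lTensor_comp_rTensor, LinearMap.comp_apply, hξ, LinearMap.lTensor_tmul,
        (one_tmul_eq_zero_iff J _).mpr hfb]
    have hξ0 : ξ = 0 :=
      (injective_iff_map_eq_zero _).mp (lTensor_injective_of_flat_over (R ⧸ m) V f hf) ξ h0
    rw [hξ0, map_zero] at hξ
    have hbJ : b ∈ J • (⊤ : Submodule R N) := (one_tmul_eq_zero_iff J b).mp hξ.symm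
    rw [hJ, Submodule.sup_smul] at hbJ
    exact add_mem (Submodule.mem_sup_left ha) hbJ

variable {S : Type u} [CommRing S] [Algebra R S] [Module S N] [IsScalarTower R S N]

/-- `u ⁻¹ (I M) = I N` for `u` injective modulo `m`, `m S` in the Jacobson radical. -/
lemma mem_smul_of_map_mem [IsNoetherianRing S] [Module.Finite S N] [Module.Flat R M]
    (m : Ideal R) [m.IsMaximal] (hm : m.map (algebraMap R S) ≤ Ideal.jacobson ⊥)
    (f : N →ₗ[R] M) (hf : Function.Injective (f.lTensor (R ⧸ m))) (I : Ideal R) {n : N}
    (hn : f n ∈ I • (⊤ : Submodule R M)) : n ∈ I • (⊤ : Submodule R N) := by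
  let T : Submodule S N := I.map (algebraMap R S) • ⊤
  have hT : T.restrictScalars R = I • (⊤ : Submodule R N) := by
    rw [Ideal.smul_restrictScalars, Submodule.restrictScalars_top]
  have h : T.mkQ n ∈
      (⨅ i : ℕ, (m.map (algebraMap R S)) ^ i • ⊤ : Submodule S (N ⧸ T)) := by
    rw [Submodule.mem_iInf]
    intro k
    rw [← Ideal.map_pow]
    obtain ⟨a, ha, b, hb, rfl⟩ := Submodule.mem_sup.mp (mem_sup_pow m f hf I hn k)
    have ha' : a ∈ T := by rw [← Submodule.restrictScalars_mem R, hT]; exact ha
    have hb' := Submodule.mem_map_of_mem (f := T.mkQ) (smul_top_restrictScalars_le (S := S) _ hb)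
    rw [Submodule.map_smul''] at hb'
    have e : T.mkQ (a + b) = T.mkQ b := by
      rw [map_add, Submodule.mkQ_apply, (Submodule.Quotient.mk_eq_zero _).mpr ha', zero_add]
    rw [e]
    exact Submodule.smul_mono le_rfl le_top hb'
  rw [Ideal.iInf_pow_smul_eq_bot_of_le_jacobson _ hm] at h
  rw [← hT]
  exact (Submodule.Quotient.mk_eq_zero T).mp ((Submodule.mem_bot S).mp h)

theorem injective_and_flat_quotient [IsNoetherianRing S] [Module.Finite S N] [Module.Flat R M]
    (m : Ideal R) [m.IsMaximal] (hm : m.map (algebraMap R S) ≤ Ideal.jacobson ⊥)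
    (f : N →ₗ[R] M) (hf : Function.Injective (f.lTensor (R ⧸ m))) :
    Function.Injective f ∧ Module.Flat R (M ⧸ LinearMap.range f) := by
  have hinj : Function.Injective f := by
    rw [injective_iff_map_eq_zero]
    intro n hn
    simpa using mem_smul_of_map_mem (S := S) m hm f hf ⊥ (n := n) (by simp [hn])
  refine ⟨hinj, Module.Flat.iff_lTensor_injective'.mpr fun I => ?_⟩
  set g := (LinearMap.range f).mkQ with hg
  have hgs : Function.Surjective g := Submodule.mkQ_surjective _
  rw [injective_iff_map_eq_zero]
  intro x hx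
  obtain ⟨y, rfl⟩ := LinearMap.rTensor_surjective I hgs x
  let μ : M ⊗[R] I →ₗ[R] M := (TensorProduct.rid R M).toLinearMap ∘ₗ I.subtype.lTensor M
  have hμ : Function.Injective μ := by
    simp only [μ, LinearMap.coe_comp, LinearEquiv.coe_coe]
    exact (LinearEquiv.injective _).comp
      (Module.Flat.lTensor_preserves_injective_linearMap _ I.injective_subtype)
  have hμ_mem : ∀ z, μ z ∈ I • (⊤ : Submodule R M) := by
    intro z
    induction z with
    | zero => simp
    | add a b ha hb => rw [map_add]; exact add_mem ha hb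
    | tmul a b => simpa [μ] using Submodule.smul_mem_smul b.2 (Submodule.mem_top : a ∈ ⊤)
  have h1 : g (μ y) = 0 := by
    have : g (μ y) = TensorProduct.rid R _ (I.subtype.lTensor _ (g.rTensor I y)) := by
      clear hx
      induction y with
      | zero => simp
      | add a b ha hb => simp [map_add, ha, hb]
      | tmul a b => simp [μ]
    rw [this, hx, map_zero]
  obtain ⟨n, hn⟩ := (Submodule.Quotient.mk_eq_zero _).mp h1
  have hnI : n ∈ I • (⊤ : Submodule R N) :=
    mem_smul_of_map_mem (S := S) m hm f hf I (by rw [hn]; exact hμ_mem y)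
  let ν : N ⊗[R] I →ₗ[R] N := (TensorProduct.rid R N).toLinearMap ∘ₗ I.subtype.lTensor N
  obtain ⟨z, hz⟩ : ∃ z, ν z = n := by
    clear hn
    refine Submodule.smul_induction_on hnI (fun c hc w _ => ⟨w ⊗ₜ ⟨c, hc⟩, by simp [ν]⟩)
      (fun a b ⟨za, ha⟩ ⟨zb, hb⟩ => ⟨za + zb, by rw [map_add, ha, hb]⟩)
  have hyz : y = f.rTensor I z := by
    apply hμ
    rw [← hn, ← hz]
    clear hz
    induction z with
    | zero => simp
    | add a b ha hb => simp [map_add, ha, hb]
    | tmul a b => simp [μ, ν]
  rw [hyz, ← LinearMap.rTensor_comp_apply, LinearMap.range_mkQ_comp, LinearMap.rTensor_zero,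
    LinearMap.zero_apply]

end

end Groth.Agent.FlatCrit65
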