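import Mathlib.RingTheory.Flat.Equalizer
import Mathlib.RingTheory.LocalRing.ResidueField.Basic
import Mathlib.LinearAlgebra.Basis.VectorSpace
import Mathlib.LinearAlgebra.TensorProduct.Quotient
import Mathlib.RingTheory.Flat.Stability

/-!
Nakayama with nilpotent ideals and freeness of flat modules.
-/

universe u

open TensorProduct

namespace Groth.Agent.FlatCrit65

variable {R : Type u} [CommRing R] {I : Ideal R} {M : Type u} [AddCommGroup M] [Module R M]

lemma le_of_le_sup_smul_of_isNilpotent (hI : IsNilpotent I) {P Q : Submodule R M}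
    (h : Q ≤ P ⊔ I • Q) : Q ≤ P := by
  obtain ⟨n, hn⟩ := hI
  have key : ∀ k : ℕ, Q ≤ P ⊔ I ^ k • Q := by
    intro k
    induction k with
    | zero => simp
    | succ k ih =>
      refine ih.trans (sup_le le_sup_left ?_)
      refine (Submodule.smul_mono le_rfl h).trans ?_
      rw [Submodule.smul_sup, ← Submodule.mul_smul, ← pow_succ]
      exact sup_le_sup Submodule.smul_le_right le_rfl
  simpa [hn] using key n

lemma eq_bot_of_le_smul_of_isNilpotent (hI : IsNilpotent I) {Q : Submodule R M}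
    (h : Q ≤ I • Q) : Q = ⊥ :=
  le_bot_iff.mp (le_of_le_sup_smul_of_isNilpotent hI (h.trans le_sup_right))

lemma eq_top_of_sup_smul_top_of_isNilpotent (hI : IsNilpotent I) {P : Submodule R M}
    (h : P ⊔ I • ⊤ = ⊤) : P = ⊤ :=
  top_le_iff.mp (le_of_le_sup_smul_of_isNilpotent hI h.ge)

lemma one_tmul_eq_zero_iff' (J : Ideal R) (x : M) :
    ((1 : R ⧸ J) ⊗ₜ[R] x = 0) ↔ x ∈ J • (⊤ : Submodule R M) := by
  rw [← (TensorProduct.quotTensorEquivQuotSMul M J).map_eq_zero_iff,
    TensorProduct.quotTensorEquivQuotSMul_mk_one_tmul, Submodule.Quotient.mk_eq_zero]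

lemma mem_smul_of_one_tmul_eq_zero (J : Ideal R) (K : Submodule R M) {x : K}
    (h : (1 : R ⧸ J) ⊗ₜ[R] x = 0) : (x : M) ∈ J • K := by
  have h3 := Submodule.mem_map_of_mem (f := K.subtype) ((one_tmul_eq_zero_iff' (M := K) J x).mp h)
  rwa [Submodule.map_smul'', Submodule.map_top, Submodule.range_subtype] at h3

/-- A lift of a basis modulo a nilpotent ideal is a basis when the module is flat. -/
lemma free_of_basis_quotient (hI : IsNilpotent I) [Module.Flat R M] {ι : Type u}
    (b : ι → M) (e : Module.Basis ι (R ⧸ I) ((R ⧸ I) ⊗[R] M))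
    (he : ∀ i, e i = 1 ⊗ₜ b i) : Module.Free R M := by
  let φ : (ι →₀ R) →ₗ[R] M := Finsupp.linearCombination R b
  have hsurj : Function.Surjective φ := by
    rw [← LinearMap.range_eq_top]
    apply eq_top_of_sup_smul_top_of_isNilpotent hI
    rw [eq_top_iff]
    intro x _
    obtain ⟨c, hc⟩ : ∃ c : ι →₀ R, ((1 : R ⧸ I) ⊗ₜ[R] x) = (1 : R ⧸ I) ⊗ₜ[R] φ c := by
      have h := e.linearCombination_repr ((1 : R ⧸ I) ⊗ₜ[R] x)
      obtain ⟨c, hc⟩ := Finsupp.mapRange_surjective (α := ι) (Ideal.Quotient.mk I) (map_zero _)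
        Ideal.Quotient.mk_surjective (e.repr ((1 : R ⧸ I) ⊗ₜ[R] x))
      refine ⟨c, ?_⟩
      rw [← h, ← hc, Finsupp.linearCombination_apply, Finsupp.sum_mapRange_index (by simp)]
      simp only [φ, Finsupp.linearCombination_apply, Finsupp.sum, tmul_sum]
      refine Finset.sum_congr rfl fun i _ => ?_
      rw [he, smul_tmul', tmul_smul, smul_tmul']
      simp [Algebra.smul_def]
    have : x - φ c ∈ I • (⊤ : Submodule R M) := by
      rw [← one_tmul_eq_zero_iff', tmul_sub, hc, sub_self]
    exact Submodule.mem_sup.mpr ⟨φ c, LinearMap.mem_range_self φ c, x - φ c, this, by simp⟩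
  have hker : LinearMap.ker φ = ⊥ := by
    apply eq_bot_of_le_smul_of_isNilpotent hI
    intro n hn
    have hex : Function.Exact (LinearMap.ker φ).subtype φ := φ.exact_subtype_ker_map
    have hinj : Function.Injective ((LinearMap.ker φ).subtype.lTensor (R ⧸ I)) :=
      LinearMap.lTensor_injective_of_exact_of_flat φ hsurj _ (Submodule.injective_subtype _) hex _
    have hcoef : ∀ i, Ideal.Quotient.mk I (n i) = 0 := by
      have h0 : Finsupp.linearCombination (R ⧸ I) e (n.mapRange (Ideal.Quotient.mk I) (map_zero _))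
          = 0 := by
        have : (1 : R ⧸ I) ⊗ₜ[R] φ n = 0 := by rw [LinearMap.mem_ker.mp hn, tmul_zero]
        rw [← this, Finsupp.linearCombination_apply, Finsupp.sum_mapRange_index (by simp)]
        simp only [φ, Finsupp.linearCombination_apply, Finsupp.sum, tmul_sum]
        refine Finset.sum_congr rfl fun i _ => ?_
        rw [he, smul_tmul', tmul_smul, smul_tmul']
        simp [Algebra.smul_def]
      have h1 := linearIndependent_iff.mp e.linearIndependent _ h0
      exact fun i => by simpa using DFunLike.congr_fun h1 i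
    have hnI : n ∈ I • (⊤ : Submodule R (ι →₀ R)) := by
      rw [← n.sum_single]
      refine Submodule.sum_mem _ fun i _ => ?_
      rw [show Finsupp.single i (n i) = n i • Finsupp.single i 1 by simp]
      exact Submodule.smul_mem_smul (Ideal.Quotient.eq_zero_iff_mem.mp (hcoef i)) Submodule.mem_top
    have h2 : (1 : R ⧸ I) ⊗ₜ[R] (⟨n, hn⟩ : LinearMap.ker φ) = 0 := by
      apply hinj
      rw [map_zero, LinearMap.lTensor_tmul]
      exact (one_tmul_eq_zero_iff' I n).mpr hnI
    exact mem_smul_of_one_tmul_eq_zero I (LinearMap.ker φ) h2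
  exact Module.Free.of_equiv (LinearEquiv.ofBijective φ ⟨LinearMap.ker_eq_bot.mp hker, hsurj⟩)

theorem free_of_flat_of_isNilpotent [IsLocalRing R] (hR : IsNilpotent (IsLocalRing.maximalIdeal R))
    [Module.Flat R M] : Module.Free R M := by
  let inst : Field (R ⧸ IsLocalRing.maximalIdeal R) := Ideal.Quotient.field _
  let K := R ⧸ IsLocalRing.maximalIdeal R
  obtain ⟨e⟩ : Nonempty (Σ ι : Set (K ⊗[R] M), Module.Basis ι K (K ⊗[R] M)) :=
    ⟨⟨_, Module.Basis.ofVectorSpace K (K ⊗[R] M)⟩⟩
  obtain ⟨ι, e⟩ := e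
  have hb : ∀ i : ι, ∃ x : M, e i = (1 : K) ⊗ₜ[R] x := by
    intro i
    generalize e i = y
    induction y with
    | zero => exact ⟨0, (tmul_zero _ _).symm⟩
    | add a b ha hb =>
      obtain ⟨x, rfl⟩ := ha
      obtain ⟨y, rfl⟩ := hb
      exact ⟨x + y, (tmul_add _ _ _).symm⟩
    | tmul a x =>
      obtain ⟨a, rfl⟩ := Ideal.Quotient.mk_surjective a
      refine ⟨a • x, ?_⟩
      rw [tmul_smul, smul_tmul', Algebra.smul_def, mul_one]
      rfl
  choose b hb using hb
  exact free_of_basis_quotient hR b e hb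

end Groth.Agent.FlatCrit65
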