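import Groth.Agent.GenFree62.Generic
import Mathlib.RingTheory.FinitePresentation
import Mathlib.RingTheory.TensorProduct.MvPolynomial
import Mathlib.RingTheory.MvPolynomial.Localization
import Mathlib.RingTheory.Localization.FractionRing
import Mathlib.RingTheory.Localization.BaseChange
import Mathlib.Algebra.Module.FinitePresentation

/-!
Generic freeness over an arbitrary domain, by descent to a finitely generated subring.
-/

universe u

open TensorProduct MvPolynomial

attribute [local instance] MvPolynomial.algebraMvPolynomial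

namespace Groth.Agent.FlatCrit65

open Groth.Agent.GenFree62

section Descend

variable {R : Type u} [CommRing R] {n k : ℕ}

/-- A finitely generated submodule of a finite free polynomial module is, up to `R`-torsion,
everything: every submodule contains a finitely generated one with torsion quotient. -/
theorem exists_fg_torsion [IsDomain R] (N : Submodule (MvPolynomial (Fin n) R) (Fin k → MvPolynomial (Fin n) R)) :
    ∃ T : Finset (Fin k → MvPolynomial (Fin n) R), (T : Set (Fin k → MvPolynomial (Fin n) R)) ⊆ N ∧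
      ∀ x ∈ N, ∃ r : R, r ≠ 0 ∧ r • x ∈ Submodule.span (MvPolynomial (Fin n) R) (T : Set _) := by
  classical
  let K := FractionRing R
  let L := MvPolynomial (Fin n) K
  let φ : MvPolynomial (Fin n) R →+* L := MvPolynomial.map (algebraMap R K)
  let g : (Fin k → MvPolynomial (Fin n) R) → (Fin k → L) := fun x i => φ (x i)
  have hg : Function.Injective g := fun x y h =>
    funext fun i => MvPolynomial.map_injective _ (IsFractionRing.injective R K) (congrFun h i)
  obtain ⟨T', hT'sub, hT'⟩ := Submodule.fg_span_iff_fg_span_finset_subset (R := L) (g '' (N : Set _))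
    |>.mp (IsNoetherian.noetherian _)
  obtain ⟨T, hT, rfl⟩ := Finset.subset_set_image_iff.mp hT'sub
  refine ⟨T, hT, fun x hx => ?_⟩
  have key : ∀ z ∈ Submodule.span L (g '' (T : Set _)), ∃ r : R, r ≠ 0 ∧
      ∃ w ∈ Submodule.span (MvPolynomial (Fin n) R) (T : Set _), (MvPolynomial.C (algebraMap R K r) : L) • z = g w := by
    intro z hz
    induction hz using Submodule.span_induction with
    | mem z hz =>
      obtain ⟨t, ht, rfl⟩ := hz
      exact ⟨1, one_ne_zero, t, Submodule.subset_span ht, by simp⟩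
    | zero => exact ⟨1, one_ne_zero, 0, zero_mem _, by funext i; simp [g]⟩
    | add a b _ _ ha hb =>
      obtain ⟨r, hr, v, hv, hrv⟩ := ha
      obtain ⟨s, hs, w, hw, hsw⟩ := hb
      refine ⟨r * s, mul_ne_zero hr hs, MvPolynomial.C s • v + MvPolynomial.C r • w,
        add_mem (Submodule.smul_mem _ _ hv) (Submodule.smul_mem _ _ hw), ?_⟩
      rw [map_mul, map_mul, smul_add, mul_comm, mul_smul, hrv, mul_comm, mul_smul, hsw]
      funext i
      simp [g, φ]
      erw [MvPolynomial.map_C, MvPolynomial.map_C]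
    | smul l a _ ha =>
      obtain ⟨r, hr, v, hv, hrv⟩ := ha
      obtain ⟨⟨p, ⟨_, s, hs, rfl⟩⟩, hps⟩ :=
        IsLocalization.surj (Submonoid.map (MvPolynomial.C (R := R) (σ := Fin n)) (nonZeroDivisors R)) l
      refine ⟨s * r, mul_ne_zero (nonZeroDivisors.ne_zero hs) hr, p • v, Submodule.smul_mem _ _ hv, ?_⟩
      have hps' : (MvPolynomial.C (algebraMap R K s) : L) * l = φ p := by
        rw [mul_comm]
        refine Eq.trans ?_ hps
        show _ = l * MvPolynomial.map (algebraMap R K) (MvPolynomial.C s)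
        rw [MvPolynomial.map_C]
      rw [map_mul, map_mul, smul_smul, mul_right_comm, hps', mul_smul, hrv]
      funext i
      simp [g]
  have hgx : g x ∈ Submodule.span L (g '' (T : Set _)) := by
    rw [← Finset.coe_image, ← hT']
    exact Submodule.subset_span ⟨x, hx, rfl⟩
  obtain ⟨r, hr, w, hw, hrw⟩ := key _ hgx
  refine ⟨r, hr, ?_⟩
  convert hw using 1
  apply hg
  rw [← hrw]
  funext i
  simp [g, φ, MvPolynomial.smul_eq_C_mul]
  exact Or.inl (MvPolynomial.map_C _ _)

/-- Base change of a finitely presented polynomial module. -/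
theorem nonempty_baseChange_quotient_span {A : Type u} [CommRing A] [Algebra A R]
    (T₀ : Set (Fin k → MvPolynomial (Fin n) A)) :
    Nonempty (R ⊗[A] ((Fin k → MvPolynomial (Fin n) A) ⧸ Submodule.span (MvPolynomial (Fin n) A) T₀) ≃ₗ[R]
      ((Fin k → MvPolynomial (Fin n) R) ⧸ Submodule.span (MvPolynomial (Fin n) R)
        ((fun x (i : Fin k) => MvPolynomial.map (algebraMap A R) (x i)) '' T₀))) := by
  classical
  set J := fun (x : Fin k → MvPolynomial (Fin n) A) (i : Fin k) =>
    MvPolynomial.map (algebraMap A R) (x i) with hJ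
  set K₀ := Submodule.span (MvPolynomial (Fin n) A) T₀ with hK₀
  set K := Submodule.span (MvPolynomial (Fin n) R) (J '' T₀) with hK
  let A₀ : R ⊗[A] (Fin k → MvPolynomial (Fin n) A) ≃ₗ[R] (Fin k → MvPolynomial (Fin n) R) :=
    TensorProduct.piRight A R R (fun _ : Fin k => MvPolynomial (Fin n) A) ≪≫ₗ
      LinearEquiv.piCongrRight fun _ => (MvPolynomial.algebraTensorAlgEquiv A R).toLinearEquiv
  have hA₀ : ∀ x, A₀ (1 ⊗ₜ x) = J x := by
    intro x; funext i
    simp [A₀, J]
  let Q₀ := (K₀.restrictScalars A).subtype.baseChange R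
  have hQ₀ : ∀ (r : R) (x : K₀.restrictScalars A), A₀ (Q₀ (r ⊗ₜ x)) = r • J x.1 := by
    intro r x
    rw [show Q₀ (r ⊗ₜ x) = r • ((1 : R) ⊗ₜ[A] x.1) by simp [Q₀, smul_tmul'], map_smul, hA₀]
  have hJsmul : ∀ (p : MvPolynomial (Fin n) A) x, J (p • x) = MvPolynomial.map (algebraMap A R) p • J x := by
    intro p x; funext i; simp [J]
  have hrange : (LinearMap.range Q₀).map A₀.toLinearMap = K.restrictScalars R := by
    apply le_antisymm
    · rintro _ ⟨_, ⟨z, rfl⟩, rfl⟩
      induction z using TensorProduct.induction_on with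
      | zero => simp
      | tmul r x =>
        have hx : J x.1 ∈ K := by
          obtain ⟨x, hx⟩ := x
          induction hx using Submodule.span_induction with
          | mem z hz => exact Submodule.subset_span ⟨z, hz, rfl⟩
          | zero => convert K.zero_mem; funext i; simp [J]
          | add a b _ _ ha hb => convert add_mem ha hb; funext i; simp [J]
          | smul p a _ ha => exact hJsmul p a ▸ K.smul_mem _ ha
        exact (hQ₀ r x).symm ▸ Submodule.smul_of_tower_mem K r hx
      | add a b ha hb => simp only [map_add]; exact add_mem ha hb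
    · set W := (LinearMap.range Q₀).map A₀.toLinearMap
      have hbase : ∀ x ∈ K₀, J x ∈ W := fun x hx =>
        ⟨_, ⟨(1 : R) ⊗ₜ[A] ⟨x, hx⟩, rfl⟩, (hQ₀ 1 ⟨x, hx⟩).trans (one_smul _ _)⟩
      have hstab : ∀ (p : MvPolynomial (Fin n) R) (y : Fin k → MvPolynomial (Fin n) R),
          y ∈ W → p • y ∈ W := by
        intro p
        induction p using MvPolynomial.induction_on with
        | C a =>
          intro y hy
          rw [← MvPolynomial.algebraMap_eq, algebraMap_smul]
          exact W.smul_mem a hy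
        | add p q hp hq => intro y hy; rw [add_smul]; exact add_mem (hp y hy) (hq y hy)
        | mul_X p i hp =>
          intro y hy
          rw [mul_smul]
          refine hp _ ?_
          obtain ⟨_, ⟨z, rfl⟩, rfl⟩ := hy
          induction z using TensorProduct.induction_on with
          | zero => simp
          | tmul r x =>
            show (MvPolynomial.X i : MvPolynomial (Fin n) R) • A₀ (Q₀ (r ⊗ₜ x)) ∈ W
            rw [hQ₀, smul_comm, ← MvPolynomial.map_X (algebraMap A R) i, ← hJsmul]
            exact W.smul_mem r (hbase _ (K₀.smul_mem _ x.2))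
          | add a b ha hb => simp only [map_add, smul_add]; exact add_mem ha hb
      intro y hy
      induction (show y ∈ Submodule.span (MvPolynomial (Fin n) R) (J '' T₀) from hy) using
        Submodule.span_induction with
      | mem v hv =>
        obtain ⟨q, hq, rfl⟩ := hv
        exact hbase q (Submodule.subset_span hq)
      | zero => exact zero_mem _
      | add a b _ _ ha hb => exact add_mem (ha ‹_›) (hb ‹_›)
      | smul p a _ ha => exact hstab p a (ha ‹_›)
  exact ⟨(LinearEquiv.baseChange A R _ _ (Submodule.Quotient.restrictScalarsEquiv A K₀)).symm ≪≫ₗ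
    (Function.Exact.linearEquivOfSurjective
      (f := Q₀) (g := (K₀.restrictScalars A).mkQ.baseChange R)
      (lTensor_exact R (LinearMap.exact_subtype_mkQ _) (Submodule.mkQ_surjective _))
      (LinearMap.lTensor_surjective R (Submodule.mkQ_surjective _))).symm ≪≫ₗ
    Submodule.Quotient.equiv _ _ A₀ hrange ≪≫ₗ Submodule.Quotient.restrictScalarsEquiv R K⟩

/-- Generic freeness of a finitely presented polynomial module over an arbitrary domain. -/
theorem exists_freeAway_quotient_span [IsDomain R]
    (T : Finset (Fin k → MvPolynomial (Fin n) R)) :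
    ∃ f : R, f ≠ 0 ∧ FreeAway f ((Fin k → MvPolynomial (Fin n) R) ⧸
      (Submodule.span (MvPolynomial (Fin n) R) (T : Set (Fin k → MvPolynomial (Fin n) R)))) := by
  classical
  obtain ⟨c, hc⟩ : ∃ c : Finset R, ∀ v ∈ T, ∀ i, ↑(v i).coeffs ⊆ (c : Set R) :=
    ⟨T.biUnion fun v => Finset.univ.biUnion fun i : Fin k => (v i).coeffs, fun v hv i a ha =>
      Finset.mem_coe.mpr (Finset.mem_biUnion.mpr ⟨v, hv, Finset.mem_biUnion.mpr ⟨i, Finset.mem_univ _, ha⟩⟩)⟩
  let R₀ := Algebra.adjoin ℤ (c : Set R)
  have : Algebra.FiniteType ℤ R₀ :=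
    (Subalgebra.fg_iff_finiteType _).mp (Subalgebra.fg_adjoin_finset _)
  have : IsNoetherianRing R₀ := Algebra.FiniteType.isNoetherianRing ℤ R₀
  let J := fun (x : Fin k → MvPolynomial (Fin n) R₀) (i : Fin k) =>
    MvPolynomial.map (algebraMap R₀ R) (x i)
  have hsurj : J '' (J ⁻¹' (T : Set _)) = (T : Set _) := by
    refine Set.image_preimage_eq_of_subset fun v hv => ?_
    choose q hq using fun i => MvPolynomial.mem_range_map_iff_coeffs_subset (f := algebraMap R₀ R)
      (x := v i) |>.mpr fun a ha => ⟨⟨a, Algebra.subset_adjoin (hc v hv i ha)⟩, rfl⟩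
    exact ⟨q, funext hq⟩
  obtain ⟨f₀, hf₀, hfree⟩ := exists_freeAway (A := R₀) (B := MvPolynomial (Fin n) R₀)
    (M := (Fin k → MvPolynomial (Fin n) R₀) ⧸
      Submodule.span (MvPolynomial (Fin n) R₀) (J ⁻¹' (T : Set (Fin k → MvPolynomial (Fin n) R))))
  refine ⟨algebraMap R₀ R f₀, fun h => hf₀ (Subtype.ext h), fun A' _ _ hu => ?_⟩
  obtain ⟨e₁⟩ := nonempty_baseChange_quotient_span (R := R)
    (J ⁻¹' (T : Set (Fin k → MvPolynomial (Fin n) R)))
  rw [hsurj] at e₁
  have := hfree A' hu
  exact Module.Free.of_equiv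
    ((AlgebraTensorModule.cancelBaseChange R₀ R A' A' _).symm ≪≫ₗ e₁.baseChange R A' _ _)

/-- Generic freeness over a domain, with the control of the relations. -/
theorem exists_freeAway_and_relations [IsDomain R] {M : Type u} [AddCommGroup M] [Module R M]
    [Module (MvPolynomial (Fin n) R) M] [IsScalarTower R (MvPolynomial (Fin n) R) M]
    (σ : (Fin k → MvPolynomial (Fin n) R) →ₗ[MvPolynomial (Fin n) R] M) (hσ : Function.Surjective σ) :
    ∃ (f : R) (T : Finset (Fin k → MvPolynomial (Fin n) R)), f ≠ 0 ∧ FreeAway f M ∧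
      (∀ v ∈ T, σ v = 0) ∧
      ∀ x, σ x = 0 → ∃ N : ℕ, f ^ N • x ∈ Submodule.span (MvPolynomial (Fin n) R) (T : Set _) := by
  obtain ⟨T, hTK, htor⟩ := exists_fg_torsion (LinearMap.ker σ)
  obtain ⟨f, hf, hfree⟩ := exists_freeAway_quotient_span T
  let K := Submodule.span (MvPolynomial (Fin n) R) (T : Set (Fin k → MvPolynomial (Fin n) R))
  let Rf := Localization.Away f
  have hle : K ≤ LinearMap.ker σ := Submodule.span_le.mpr hTK
  let τ : ((Fin k → MvPolynomial (Fin n) R) ⧸ K) →ₗ[R] M := (K.liftQ σ hle).restrictScalars R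
  have hτs : Function.Surjective τ := fun m => by
    obtain ⟨x, rfl⟩ := hσ m; exact ⟨Submodule.Quotient.mk x, rfl⟩
  have : IsDomain Rf := IsLocalization.isDomain_localization
    (powers_le_nonZeroDivisors_of_noZeroDivisors hf)
  have hfr := hfree Rf (IsLocalization.Away.algebraMap_isUnit f)
  have hker : ∀ z : Rf ⊗[R] LinearMap.ker τ, ∃ r : R, r ≠ 0 ∧ r • z = 0 := by
    intro z
    induction z using TensorProduct.induction_on with
    | zero => exact ⟨1, one_ne_zero, smul_zero _⟩
    | tmul a q =>
      obtain ⟨q, hq⟩ := q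
      obtain ⟨x, rfl⟩ := Submodule.Quotient.mk_surjective K q
      obtain ⟨r, hr, hrx⟩ := htor x hq
      refine ⟨r, hr, ?_⟩
      rw [← tmul_smul]
      rw [show (r • (⟨Submodule.Quotient.mk x, hq⟩ : LinearMap.ker τ)) = 0 from
        Subtype.ext ((Submodule.Quotient.mk_eq_zero K).mpr hrx), tmul_zero]
    | add a b ha hb =>
      obtain ⟨r, hr, ha⟩ := ha
      obtain ⟨s, hs, hb⟩ := hb
      exact ⟨s * r, mul_ne_zero hs hr, by rw [smul_add, mul_smul, ha, mul_comm, mul_smul, hb]; simp⟩
  have hinj : Function.Injective (τ.baseChange Rf) := by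
    rw [← LinearMap.ker_eq_bot, Submodule.eq_bot_iff]
    intro z hz
    obtain ⟨w, rfl⟩ := ((@lTensor_exact R (LinearMap.ker τ) _ M _ _ _ _ _ _ _
      (LinearMap.ker τ).subtype τ Rf _ _ τ.exact_subtype_ker_map hτs) z).mp hz
    obtain ⟨r, hr, hw⟩ := hker w
    have h0 : algebraMap R Rf r • (LinearMap.lTensor Rf (LinearMap.ker τ).subtype) w = 0 := by
      rw [algebraMap_smul, ← map_smul, hw, map_zero]
    refine (smul_eq_zero.mp h0).resolve_left ?_
    exact fun h => hr ((IsLocalization.injective Rf
      (powers_le_nonZeroDivisors_of_noZeroDivisors hf)) (h.trans (map_zero _).symm))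
  let e : Rf ⊗[R] ((Fin k → MvPolynomial (Fin n) R) ⧸ K) ≃ₗ[Rf] Rf ⊗[R] M :=
    LinearEquiv.ofBijective (τ.baseChange Rf) ⟨hinj, LinearMap.lTensor_surjective Rf hτs⟩
  refine ⟨f, T, hf, freeAway_of_free (Module.Free.of_equiv e), fun v hv => hTK hv, fun x hx => ?_⟩
  have h1 : (1 : Rf) ⊗ₜ[R] (Submodule.Quotient.mk (p := K) x) = 0 := by
    apply hinj
    rw [map_zero, LinearMap.baseChange_tmul]
    show (1 : Rf) ⊗ₜ[R] σ x = 0
    rw [hx, tmul_zero]
  have hbc : IsLocalizedModule (Submonoid.powers f)
      (TensorProduct.mk R Rf ((Fin k → MvPolynomial (Fin n) R) ⧸ K) 1) :=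
    (isLocalizedModule_iff_isBaseChange (Submonoid.powers f) Rf _).mpr
      (TensorProduct.isBaseChange R _ Rf)
  obtain ⟨⟨_, N, rfl⟩, hc⟩ := (IsLocalizedModule.eq_zero_iff (Submonoid.powers f)
    (TensorProduct.mk R Rf ((Fin k → MvPolynomial (Fin n) R) ⧸ K) 1)).mp h1
  exact ⟨N, (Submodule.Quotient.mk_eq_zero K).mp hc⟩

end Descend

end Groth.Agent.FlatCrit65

namespace Groth.Agent.FlatCrit65

open Groth.Agent.GenFree62

/-- Generic freeness, with finite presentation. -/
theorem generic_freeness {R S M : Type u} [CommRing R] [IsDomain R] [CommRing S] [Algebra R S]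
    [Algebra.FiniteType R S] [AddCommGroup M] [Module S M] [Module R M] [IsScalarTower R S M]
    [Module.Finite S M] :
    ∃ f : R, f ≠ 0 ∧ FreeAway f M ∧ FreeAway f S ∧
      Algebra.FinitePresentation (Localization.Away f) (Localization.Away f ⊗[R] S) ∧
      Module.FinitePresentation (Localization.Away (algebraMap R S f))
        (LocalizedModule (Submonoid.powers (algebraMap R S f)) M) := by
  classical
  obtain ⟨n, π, hπ⟩ := Algebra.FiniteType.iff_quotient_mvPolynomial''.mp ‹Algebra.FiniteType R S›
  letI : Algebra (MvPolynomial (Fin n) R) S := π.toRingHom.toAlgebra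
  have : IsScalarTower R (MvPolynomial (Fin n) R) S := IsScalarTower.of_algebraMap_eq fun a => (π.commutes a).symm
  letI : Module (MvPolynomial (Fin n) R) M := Module.compHom M π.toRingHom
  have : IsScalarTower (MvPolynomial (Fin n) R) S M := IsScalarTower.of_algebraMap_smul fun _ _ => rfl
  have : IsScalarTower R (MvPolynomial (Fin n) R) M := IsScalarTower.of_algebraMap_smul fun a m => by
    show π (algebraMap R _ a) • m = a • m
    rw [π.commutes, algebraMap_smul]
  obtain ⟨m, b, hb⟩ := Module.Finite.exists_fin (R := S) (M := M)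
  let σ : (Fin m → MvPolynomial (Fin n) R) →ₗ[MvPolynomial (Fin n) R] M :=
    Fintype.linearCombination _ b
  have hσ : Function.Surjective σ := by
    intro x
    obtain ⟨c, hc⟩ := (Submodule.mem_span_range_iff_exists_fun S).mp
      (hb ▸ Submodule.mem_top : x ∈ Submodule.span S (Set.range b))
    choose p hp using fun i => hπ (c i)
    refine ⟨p, ?_⟩
    rw [Fintype.linearCombination_apply, ← hc]
    exact Finset.sum_congr rfl fun i _ => by rw [← algebraMap_smul S (p i), ← hp]; rfl
  let σ₁ : (Fin 1 → MvPolynomial (Fin n) R) →ₗ[MvPolynomial (Fin n) R] S :=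
    (Algebra.linearMap (MvPolynomial (Fin n) R) S) ∘ₗ LinearMap.proj 0
  have hσ₁ : Function.Surjective σ₁ := fun s => by
    obtain ⟨p, rfl⟩ := hπ s; exact ⟨fun _ => p, rfl⟩
  obtain ⟨f₁, T₁, hf₁, hS, hT₁, hrel₁⟩ := exists_freeAway_and_relations σ₁ hσ₁
  obtain ⟨f₂, T₂, hf₂, hM, hT₂, hrel₂⟩ := exists_freeAway_and_relations σ hσ
  refine ⟨f₁ * f₂, mul_ne_zero hf₁ hf₂, hM.of_dvd (dvd_mul_left _ _), hS.of_dvd (dvd_mul_right _ _), ?_, ?_⟩
  · let Rf := Localization.Away (f₁ * f₂)
    let Φ := Algebra.TensorProduct.map (AlgHom.id Rf Rf) π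
    have : Algebra.FinitePresentation Rf (Rf ⊗[R] MvPolynomial (Fin n) R) :=
      Algebra.FinitePresentation.equiv (MvPolynomial.algebraTensorAlgEquiv (σ := Fin n) R Rf).symm
    refine Algebra.FinitePresentation.of_surjective (f := Φ)
      (LinearMap.lTensor_surjective Rf (g := π.toLinearMap) hπ) ?_
    refine ⟨T₁.image fun v => (1 : Rf) ⊗ₜ[R] v 0, ?_⟩
    have hker : RingHom.ker Φ.toRingHom = (RingHom.ker π).map
        (Algebra.TensorProduct.includeRight (R := R) (A := Rf) (B := MvPolynomial (Fin n) R)) :=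
      Algebra.TensorProduct.lTensor_ker π hπ
    rw [hker]
    apply le_antisymm
    · rw [Finset.coe_image]
      refine Submodule.span_le.mpr ?_
      rintro _ ⟨v, hv, rfl⟩
      exact Ideal.mem_map_of_mem (Algebra.TensorProduct.includeRight (R := R) (A := Rf)
        (B := MvPolynomial (Fin n) R)) (show v 0 ∈ RingHom.ker π from hT₁ v hv)
    · rw [Ideal.map_le_iff_le_comap]
      intro p hp
      obtain ⟨N, hN⟩ := hrel₁ (fun _ => p) hp
      have key : ∀ w ∈ Submodule.span (MvPolynomial (Fin n) R)
          (T₁ : Set (Fin 1 → MvPolynomial (Fin n) R)), (1 : Rf) ⊗ₜ[R] w 0 ∈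
          Submodule.span (Rf ⊗[R] MvPolynomial (Fin n) R)
            ((T₁.image fun v => (1 : Rf) ⊗ₜ[R] v 0 : Finset _) : Set (Rf ⊗[R] MvPolynomial (Fin n) R)) := by
        intro w hw
        induction hw using Submodule.span_induction with
        | mem v hv => exact Submodule.subset_span (Finset.mem_coe.mpr (Finset.mem_image_of_mem _ hv))
        | zero => simp
        | add a b _ _ ha hb => rw [Pi.add_apply, tmul_add]; exact add_mem ha hb
        | smul q a _ ha =>
          rw [Pi.smul_apply, smul_eq_mul, show (1 : Rf) ⊗ₜ[R] (q * a 0) = ((1 : Rf) ⊗ₜ[R] q) * ((1 : Rf) ⊗ₜ[R] a 0) by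
            rw [Algebra.TensorProduct.tmul_mul_tmul, one_mul]]
          exact Submodule.smul_mem _ ((1 : Rf) ⊗ₜ[R] q) ha
      have h1 := key _ hN
      rw [Pi.smul_apply, show (1 : Rf) ⊗ₜ[R] (f₁ ^ N • p) =
        ((algebraMap R Rf (f₁ ^ N)) ⊗ₜ[R] 1) * ((1 : Rf) ⊗ₜ[R] p) by
          rw [← smul_tmul, Algebra.TensorProduct.tmul_mul_tmul, Algebra.smul_def, one_mul]] at h1
      have hu : IsUnit (algebraMap R Rf (f₁ ^ N)) := by
        rw [map_pow]
        exact (isUnit_of_mul_isUnit_left (by
          rw [← map_mul]; exact IsLocalization.Away.algebraMap_isUnit (f₁ * f₂))).pow _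
      exact (Ideal.unit_mul_mem_iff_mem _
        (hu.map (Algebra.TensorProduct.includeLeftRingHom (R := R) (A := Rf)
          (B := MvPolynomial (Fin n) R)))).mp h1
  · let g := algebraMap R S (f₁ * f₂)
    let W : Submodule S (Fin m → S) := Submodule.span S
      ((fun v i => π (v i)) '' (T₂ : Set (Fin m → MvPolynomial (Fin n) R)))
    have hW : W.FG := Submodule.fg_span (T₂.finite_toSet.image _)
    let τ : (Fin m → S) →ₗ[S] M := Fintype.linearCombination _ b
    have hτσ : ∀ v, τ (fun i => π (v i)) = σ v := fun v => by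
      simp only [τ, σ, Fintype.linearCombination_apply]
      exact Finset.sum_congr rfl fun i _ => rfl
    have hle : W ≤ LinearMap.ker τ := by
      rw [Submodule.span_le]
      rintro _ ⟨v, hv, rfl⟩
      exact (hτσ v).trans (hT₂ v hv)
    let F : ((Fin m → S) ⧸ W) →ₗ[S] M := W.liftQ τ hle
    have hF : Function.Surjective F := fun x => by
      obtain ⟨v, rfl⟩ := hσ x
      exact ⟨Submodule.Quotient.mk fun i => π (v i), hτσ v⟩
    have hkey : ∀ y, τ y = 0 → ∃ N : ℕ, g ^ N • y ∈ W := by
      intro y hy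
      choose p hp using fun i => hπ (y i)
      obtain ⟨N, hN⟩ := hrel₂ p (by rw [← hτσ]; simpa [hp] using hy)
      refine ⟨N, ?_⟩
      have hmap : ∀ w ∈ Submodule.span (MvPolynomial (Fin n) R)
          (T₂ : Set (Fin m → MvPolynomial (Fin n) R)), (fun i => π (w i)) ∈ W := by
        intro w hw
        induction hw using Submodule.span_induction with
        | mem v hv => exact Submodule.subset_span ⟨v, hv, rfl⟩
        | zero => convert W.zero_mem; simp
        | add a b _ _ ha hb => convert add_mem ha hb; simp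
        | smul q a _ ha => convert W.smul_mem (π q) ha; simp
      convert W.smul_mem (algebraMap R S (f₁ ^ N)) (hmap _ hN) using 1
      funext i
      simp [g, hp, mul_pow, Algebra.smul_def, mul_assoc]
    have : Module.FinitePresentation S ((Fin m → S) ⧸ W) :=
      Module.finitePresentation_of_free_of_surjective W.mkQ W.mkQ_surjective (by rwa [Submodule.ker_mkQ])
    let L := Localization.Away g
    let ψ : L ⊗[S] ((Fin m → S) ⧸ W) →ₗ[L] L ⊗[S] M := F.baseChange L
    have hψ : Function.Bijective ψ := by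
      refine ⟨?_, LinearMap.lTensor_surjective L hF⟩
      rw [← LinearMap.ker_eq_bot, Submodule.eq_bot_iff]
      intro z hz
      obtain ⟨w, rfl⟩ := ((@lTensor_exact S (LinearMap.ker F) _ M _ _ _ _ _ _ _
        (LinearMap.ker F).subtype F L _ _ F.exact_subtype_ker_map hF) z).mp hz
      suffices w = 0 by rw [this, map_zero]
      clear hz
      induction w using TensorProduct.induction_on with
      | zero => rfl
      | tmul a q =>
        obtain ⟨q, hq⟩ := q
        obtain ⟨y, rfl⟩ := Submodule.Quotient.mk_surjective W q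
        obtain ⟨N, hN⟩ := hkey y hq
        obtain ⟨a', ha'⟩ : ∃ a', a = g ^ N • a' := by
          obtain ⟨u, hu⟩ := (IsLocalization.Away.algebraMap_isUnit (S := L) g).pow N
          exact ⟨↑u⁻¹ * a, by rw [Algebra.smul_def, map_pow, ← hu, ← mul_assoc, Units.mul_inv, one_mul]⟩
        rw [ha', smul_tmul, show g ^ N • (⟨Submodule.Quotient.mk y, hq⟩ : LinearMap.ker F) = 0 from
          Subtype.ext ((Submodule.Quotient.mk_eq_zero W).mpr hN), tmul_zero]
      | add a b ha hb => rw [ha, hb, add_zero]
    exact Module.FinitePresentation.of_equiv ((LinearEquiv.ofBijective ψ hψ) ≪≫ₗ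
      (LocalizedModule.equivTensorProduct (Submonoid.powers g) M).symm)

end Groth.Agent.FlatCrit65
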