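import Mathlib.RingTheory.Flat.Basic
import Mathlib.RingTheory.Flat.Tensor
import Mathlib.RingTheory.Flat.Stability
import Mathlib.RingTheory.Filtration
import Mathlib.Algebra.Module.Torsion.Basic
import Mathlib.RingTheory.Ideal.Quotient.Operations
import Mathlib.LinearAlgebra.TensorProduct.Quotient
import Mathlib.RingTheory.TensorProduct.Finite
import Mathlib.RingTheory.LocalRing.Basic

/-!
Tor-free tools for the criterion of flatness: `TorTriv I M` says that tensoring with `M`
preserves injectivity of every submodule whose quotient is killed by `I`.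
-/

set_option linter.style.haveILetI false

universe u

open TensorProduct

namespace Groth.Agent.FlatCrit65

variable {R : Type u} [CommRing R] {M : Type u} [AddCommGroup M] [Module R M]

/-- `M` has vanishing first Tor against all modules killed by `I`. -/
def TorTriv (I : Ideal R) (M : Type u) [AddCommGroup M] [Module R M] : Prop :=
  ∀ (L : Type u) [AddCommGroup L] [Module R L] (K : Submodule R L),
    I • (⊤ : Submodule R L) ≤ K → Function.Injective (K.subtype.lTensor M)

lemma torTriv_top : TorTriv (⊤ : Ideal R) M := by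
  intro L _ _ K hK
  have hK' : K = ⊤ := top_unique (by simpa using hK)
  subst hK'
  exact (LinearEquiv.lTensor M (Submodule.topEquiv : (⊤ : Submodule R L) ≃ₗ[R] L)).injective

lemma TorTriv.mul {I J : Ideal R} (hI : TorTriv I M) (hJ : TorTriv J M) : TorTriv (I * J) M := by
  intro L _ _ K hK
  let L' : Submodule R L := K ⊔ J • ⊤
  have h1 : Function.Injective (L'.subtype.lTensor M) := hJ L L' le_sup_right
  have h2 : I • (⊤ : Submodule R L') ≤ K.comap L'.subtype := by
    rw [← Submodule.map_le_iff_le_comap, Submodule.map_smul'', Submodule.map_top,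
      Submodule.range_subtype]
    show I • (K ⊔ J • ⊤) ≤ K
    rw [Submodule.smul_sup]
    exact sup_le Submodule.smul_le_right (by rw [← Submodule.mul_smul]; exact hK)
  have h3 := hI L' _ h2
  let e := Submodule.comapSubtypeEquivOfLe (le_sup_left : K ≤ L')
  have : K.subtype = L'.subtype ∘ₗ (K.comap L'.subtype).subtype ∘ₗ e.symm.toLinearMap := by
    ext; rfl
  rw [this, LinearMap.lTensor_comp, LinearMap.lTensor_comp]
  exact h1.comp (h3.comp (LinearEquiv.lTensor M e.symm).injective)

lemma TorTriv.pow {I : Ideal R} (hI : TorTriv I M) : ∀ n : ℕ, TorTriv (I ^ n) M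
  | 0 => by rw [pow_zero, Ideal.one_eq_top]; exact torTriv_top
  | n + 1 => by rw [pow_succ]; exact (TorTriv.pow hI n).mul hI

/-- Tensoring over `R` with `M` preserves injections of `A`-modules when `A ⊗[R] M` is flat. -/
lemma lTensor_injective_of_flat_baseChange (A : Type u) [CommRing A] [Algebra R A]
    [Module.Flat A (A ⊗[R] M)] {P Q : Type u} [AddCommGroup P] [Module R P] [Module A P]
    [IsScalarTower R A P] [AddCommGroup Q] [Module R Q] [Module A Q] [IsScalarTower R A Q]
    (f : P →ₗ[A] Q) (hf : Function.Injective f) :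
    Function.Injective ((f.restrictScalars R).lTensor M) := by
  have h : Function.Injective (f.rTensor (A ⊗[R] M)) :=
    Module.Flat.rTensor_preserves_injective_linearMap f hf
  have key : ∀ x : P ⊗[A] (A ⊗[R] M),
      (f.restrictScalars R).rTensor M
        (AlgebraTensorModule.cancelBaseChange R A A P M x) =
      AlgebraTensorModule.cancelBaseChange R A A Q M (f.rTensor (A ⊗[R] M) x) := by
    intro x
    induction x with
    | zero => simp
    | add a b ha hb => simp [map_add, ha, hb]
    | tmul p y =>
      induction y with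
      | zero => simp
      | add a b ha hb => simp [tmul_add, map_add, ha, hb]
      | tmul a m => simp [map_smul]
  rw [LinearMap.lTensor_inj_iff_rTensor_inj, injective_iff_map_eq_zero]
  intro x hx
  obtain ⟨x, rfl⟩ := (AlgebraTensorModule.cancelBaseChange R A A P M).surjective x
  rw [key, LinearEquiv.map_eq_zero_iff] at hx
  rw [(injective_iff_map_eq_zero _).mp h x hx, map_zero]

variable {I : Ideal R}

/-- If `M / I M` is flat over `R / I`, tensoring with `M` is left exact on modules killed by `I`. -/
lemma lTensor_injective_of_killed (h2 : Module.Flat (R ⧸ I) ((R ⧸ I) ⊗[R] M))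
    {P Q : Type u} [AddCommGroup P] [Module R P] [AddCommGroup Q] [Module R Q]
    (hP : Module.IsTorsionBySet R P I) (hQ : Module.IsTorsionBySet R Q I)
    (f : P →ₗ[R] Q) (hf : Function.Injective f) : Function.Injective (f.lTensor M) := by
  letI : Module (R ⧸ I) P := hP.module
  letI : Module (R ⧸ I) Q := hQ.module
  haveI : IsScalarTower R (R ⧸ I) P := hP.isScalarTower
  haveI : IsScalarTower R (R ⧸ I) Q := hQ.isScalarTower
  let f' : P →ₗ[R ⧸ I] Q := f.extendScalarsOfSurjective Ideal.Quotient.mk_surjective
  exact lTensor_injective_of_flat_baseChange (R ⧸ I) f' hf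

lemma isTorsionBySet_of_smul_eq_bot {Q : Type u} [AddCommGroup Q] [Module R Q]
    (h : I • (⊤ : Submodule R Q) = ⊥) : Module.IsTorsionBySet R Q I :=
  fun x a => by
    simpa [h] using Submodule.smul_mem_smul a.2 (Submodule.mem_top : x ∈ ⊤)

lemma isTorsionBySet_submodule {Q : Type u} [AddCommGroup Q] [Module R Q]
    (h : Module.IsTorsionBySet R Q I) (P : Submodule R Q) : Module.IsTorsionBySet R P I :=
  fun x a => Subtype.ext (@h (x : Q) a)

lemma lTensor_injective_free (h1 : Function.Injective (I.subtype.lTensor M))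
    (h2 : Module.Flat (R ⧸ I) ((R ⧸ I) ⊗[R] M)) {F : Type u} [AddCommGroup F] [Module R F]
    [Module.Flat R F] (K' : Submodule R F) (hK' : I • (⊤ : Submodule R F) ≤ K') :
    Function.Injective (K'.subtype.lTensor M) := by
  let IF : Submodule R F := I • ⊤
  have h0 : Function.Injective (IF.subtype.lTensor M) := by
    let ν : I ⊗[R] F →ₗ[R] F := TensorProduct.lift ((LinearMap.lsmul R F).comp I.subtype)
    have hν : Function.Injective (ν.lTensor M) := by
      have e1 : ν.lTensor M =
          (LinearEquiv.lTensor M (TensorProduct.lid R F)).toLinearMap ∘ₗ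
            (TensorProduct.assoc R M R F).toLinearMap ∘ₗ
            ((I.subtype.lTensor M).rTensor F) ∘ₗ
            (TensorProduct.assoc R M I F).symm.toLinearMap := by
        ext m a l; simp [ν]
      rw [e1]
      simp only [LinearMap.coe_comp, LinearEquiv.coe_coe]
      exact (LinearEquiv.injective _).comp ((LinearEquiv.injective _).comp
        ((Module.Flat.rTensor_preserves_injective_linearMap _ h1).comp
          (LinearEquiv.injective _)))
    have hν' : LinearMap.range ν = IF := by
      apply le_antisymm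
      · rintro _ ⟨x, rfl⟩
        induction x with
        | zero => simp
        | add a b ha hb => rw [map_add]; exact IF.add_mem ha hb
        | tmul a b => exact Submodule.smul_mem_smul a.2 Submodule.mem_top
      · refine Submodule.smul_le.mpr fun a ha b _ => ⟨(⟨a, ha⟩ : I) ⊗ₜ b, rfl⟩
    let ν' : I ⊗[R] F →ₗ[R] IF := ν.codRestrict IF (fun x => hν' ▸ LinearMap.mem_range_self ν x)
    have hsurj : Function.Surjective ν' := by
      rintro ⟨x, hx⟩
      rw [← hν'] at hx
      obtain ⟨y, rfl⟩ := hx
      exact ⟨y, rfl⟩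
    have e2 : ν = IF.subtype ∘ₗ ν' := rfl
    rw [injective_iff_map_eq_zero]
    intro x hx
    obtain ⟨y, rfl⟩ := LinearMap.lTensor_surjective M hsurj x
    have : ν.lTensor M y = 0 := by rw [e2, LinearMap.lTensor_comp_apply]; exact hx
    rw [(injective_iff_map_eq_zero _).mp hν y this, map_zero]
  have hQ : Module.IsTorsionBySet R (F ⧸ IF) I := by
    intro x a
    obtain ⟨x, rfl⟩ := Submodule.mkQ_surjective _ x
    exact (Submodule.Quotient.mk_eq_zero _).mpr (Submodule.smul_mem_smul a.2 Submodule.mem_top)
  let Kb : Submodule R (F ⧸ IF) := K'.map IF.mkQ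
  have hb := lTensor_injective_of_killed h2 (isTorsionBySet_submodule hQ Kb) hQ Kb.subtype
    Kb.injective_subtype
  let p : K' →ₗ[R] Kb := (IF.mkQ.comp K'.subtype).codRestrict Kb
    (fun x => Submodule.mem_map_of_mem x.2)
  have hp : Function.Surjective p := by
    rintro ⟨_, x, hx, rfl⟩
    exact ⟨⟨x, hx⟩, rfl⟩
  let i : IF →ₗ[R] K' := Submodule.inclusion hK'
  have hex : Function.Exact i p := by
    intro x
    constructor
    · intro hx
      exact ⟨⟨x, (Submodule.Quotient.mk_eq_zero _).mp (congrArg Subtype.val hx)⟩, rfl⟩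
    · rintro ⟨y, rfl⟩
      exact Subtype.ext ((Submodule.Quotient.mk_eq_zero _).mpr y.2)
  rw [injective_iff_map_eq_zero]
  intro x hx
  have : p.lTensor M x = 0 := by
    apply hb
    rw [map_zero, ← LinearMap.lTensor_comp_apply]
    show (IF.mkQ.comp K'.subtype).lTensor M x = 0
    rw [LinearMap.lTensor_comp_apply, hx, map_zero]
  obtain ⟨y, rfl⟩ := (lTensor_exact M hex hp x).mp this
  rw [← LinearMap.lTensor_comp_apply] at hx
  rw [(injective_iff_map_eq_zero _).mp h0 y hx, map_zero]

/-- The hypotheses of the local criterion give vanishing of Tor against modules killed by `I`. -/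
lemma torTriv_of_injective (h1 : Function.Injective (I.subtype.lTensor M))
    (h2 : Module.Flat (R ⧸ I) ((R ⧸ I) ⊗[R] M)) : TorTriv I M := by
  intro L _ _ K hK
  let π : (L →₀ R) →ₗ[R] L := Finsupp.linearCombination R id
  have hπ : Function.Surjective π := fun l =>
    ⟨Finsupp.single l 1, (Finsupp.linearCombination_single R 1 l).trans (one_smul R _)⟩
  let K' : Submodule R (L →₀ R) := K.comap π
  have hK' : I • (⊤ : Submodule R (L →₀ R)) ≤ K' := by
    rw [← Submodule.map_le_iff_le_comap, Submodule.map_smul'']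
    exact (Submodule.smul_mono le_rfl le_top).trans hK
  have hF : Function.Injective (K'.subtype.lTensor M) :=
    lTensor_injective_free h1 h2 K' hK'
  -- step 2: descend along the presentation
  let π' : K' →ₗ[R] K := π.restrict (fun _ h => h)
  have hπ' : Function.Surjective π' := by
    rintro ⟨l, hl⟩
    obtain ⟨f, hf⟩ := hπ l
    exact ⟨⟨f, show π f ∈ K from hf ▸ hl⟩, Subtype.ext hf⟩
  let j : LinearMap.ker π →ₗ[R] K' :=
    Submodule.inclusion (fun x (hx : π x = 0) => show π x ∈ K from hx ▸ K.zero_mem)
  rw [injective_iff_map_eq_zero]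
  intro x hx
  obtain ⟨x, rfl⟩ := LinearMap.lTensor_surjective M hπ' x
  have h3 : π.lTensor M (K'.subtype.lTensor M x) = 0 := by
    rw [← LinearMap.lTensor_comp_apply]
    show (K.subtype.comp π').lTensor M x = 0
    rw [LinearMap.lTensor_comp_apply, hx]
  have hex : Function.Exact (LinearMap.ker π).subtype π := π.exact_subtype_ker_map
  obtain ⟨y, hy⟩ := (@lTensor_exact R (LinearMap.ker π) (L →₀ R) L _ _ _ _ _ _ _
    (LinearMap.ker π).subtype π M _ _ hex hπ _).mp h3
  have hxy : x = j.lTensor M y := hF (by rw [← hy, ← LinearMap.lTensor_comp_apply]; rfl)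
  have : π'.comp j = 0 := LinearMap.ext fun z => Subtype.ext z.2
  rw [hxy, ← LinearMap.lTensor_comp_apply, this, LinearMap.lTensor_zero, LinearMap.zero_apply]

/-- Nilpotent case of the criterion. -/
theorem flat_of_torTriv_bot (h : TorTriv (⊥ : Ideal R) M) : Module.Flat R M := by
  rw [Module.Flat.iff_lTensor_injective']
  intro J
  exact h R J (by simp)

theorem flat_of_injective_of_isNilpotent (hI : IsNilpotent I)
    (h1 : Function.Injective (I.subtype.lTensor M))
    (h2 : Module.Flat (R ⧸ I) ((R ⧸ I) ⊗[R] M)) : Module.Flat R M := by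
  obtain ⟨n, hn⟩ := hI
  apply flat_of_torTriv_bot
  have := (torTriv_of_injective h1 h2).pow n
  rwa [hn] at this

/-- `LexQuot I M`: tensoring with `M` is injective on ideals of `R / I ^ n` for all `n`. -/
def LexQuot (I : Ideal R) (M : Type u) [AddCommGroup M] [Module R M] : Prop :=
  ∀ (n : ℕ) (K : Submodule R (R ⧸ I ^ n)), Function.Injective (K.subtype.lTensor M)

lemma TorTriv.lexQuot (h : TorTriv I M) : LexQuot I M := by
  intro n K
  refine h.pow n (R ⧸ I ^ n) K ?_
  refine le_trans (le_of_eq ?_) bot_le
  rw [eq_bot_iff, Submodule.smul_le]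
  intro a ha x _
  obtain ⟨x, rfl⟩ := Ideal.Quotient.mk_surjective x
  exact (Submodule.mem_bot R).mpr (Ideal.Quotient.eq_zero_iff_mem.mpr (Ideal.mul_mem_right x _ ha))

lemma lexQuot_of_flat (h : ∀ n : ℕ, Module.Flat (R ⧸ I ^ n) ((R ⧸ I ^ n) ⊗[R] M)) :
    LexQuot I M := by
  intro n K
  have hQ : Module.IsTorsionBySet R (R ⧸ I ^ n) (I ^ n : Ideal R) := by
    intro x a
    obtain ⟨x, rfl⟩ := Ideal.Quotient.mk_surjective x
    exact Ideal.Quotient.eq_zero_iff_mem.mpr (Ideal.mul_mem_right x _ a.2)
  exact lTensor_injective_of_killed (h n) (isTorsionBySet_submodule hQ K) hQ _ K.injective_subtype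

/-- Artin-Rees: the kernel of `M ⊗ J → M` is contained in every `I ^ k (M ⊗ J)`. -/
lemma LexQuot.mem_pow_smul [IsNoetherianRing R] (h : LexQuot I M) (J : Ideal R)
    (x : M ⊗[R] J) (hx : J.subtype.lTensor M x = 0) (k : ℕ) :
    x ∈ I ^ k • (⊤ : Submodule R (M ⊗[R] J)) := by
  obtain ⟨c, hc⟩ := I.exists_pow_inf_eq_pow_smul (M := R) (J : Submodule R R)
  let K : Submodule R (R ⧸ I ^ (k + c)) := Submodule.map (I ^ (k + c) : Ideal R).mkQ J
  let g : J →ₗ[R] K := ((I ^ (k + c) : Ideal R).mkQ.comp J.subtype).codRestrict K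
    (fun x => Submodule.mem_map_of_mem x.2)
  have hg : Function.Surjective g := by
    rintro ⟨_, x, hx, rfl⟩
    exact ⟨⟨x, hx⟩, rfl⟩
  have h0 : g.lTensor M x = 0 := by
    apply h (k + c) K
    rw [map_zero, ← LinearMap.lTensor_comp_apply]
    show ((I ^ (k + c) : Ideal R).mkQ.comp J.subtype).lTensor M x = 0
    rw [LinearMap.lTensor_comp_apply, hx, map_zero]
  obtain ⟨y, rfl⟩ := (lTensor_exact M g.exact_subtype_ker_map hg x).mp h0
  have hker : LinearMap.ker g ≤ I ^ k • (⊤ : Submodule R J) := by
    rintro ⟨j, hj⟩ hgj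
    have h1 : j ∈ I ^ (k + c) :=
      (Submodule.Quotient.mk_eq_zero _).mp (congrArg Subtype.val (LinearMap.mem_ker.mp hgj))
    have h2 : j ∈ I ^ (k + c) • (⊤ : Submodule R R) ⊓ (J : Submodule R R) := by
      refine ⟨?_, hj⟩
      simpa using h1
    rw [hc _ (Nat.le_add_left c k), Nat.add_sub_cancel] at h2
    have h3 : j ∈ I ^ k • (J : Submodule R R) := Submodule.smul_mono le_rfl inf_le_right h2
    have h4 : (I ^ k • (⊤ : Submodule R J)).map J.subtype = I ^ k • (J : Submodule R R) := by
      rw [Submodule.map_smul'', Submodule.map_top, Submodule.range_subtype]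
    rw [← h4] at h3
    obtain ⟨z, hz, hzj⟩ := h3
    obtain rfl : z = ⟨j, hj⟩ := Subtype.ext hzj
    exact hz
  clear h0 hx
  induction y with
  | zero => simp
  | add a b ha hb =>
    rw [map_add]
    exact Submodule.add_mem _ ha hb
  | tmul m z =>
    have hz := hker z.2
    have : (I ^ k • (⊤ : Submodule R J)).map (TensorProduct.mk R M J m) ≤ I ^ k • ⊤ := by
      rw [Submodule.map_smul'']; exact Submodule.smul_mono le_rfl le_top
    exact this (Submodule.mem_map_of_mem hz)

section OverS

variable {S : Type u} [CommRing S] [Algebra R S] [Module S M] [IsScalarTower R S M]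

variable (S) in
lemma finite_tensor [Module.Finite S M] (J : Type u) [AddCommGroup J] [Module R J]
    [Module.Finite R J] : Module.Finite S (M ⊗[R] J) :=
  Module.Finite.equiv (AlgebraTensorModule.cancelBaseChange R S S M J)

lemma smul_top_restrictScalars_le {N : Type u} [AddCommGroup N] [Module R N] [Module S N]
    [IsScalarTower R S N] (J : Ideal R) {x : N} (hx : x ∈ J • (⊤ : Submodule R N)) :
    x ∈ J.map (algebraMap R S) • (⊤ : Submodule S N) := by
  refine Submodule.smul_induction_on hx (fun a ha n _ => ?_) (fun a b ha hb => add_mem ha hb)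
  rw [← algebraMap_smul S a n]
  exact Submodule.smul_mem_smul (Ideal.mem_map_of_mem _ ha) Submodule.mem_top

/-- Local criterion: `S` Noetherian with `I S` in the Jacobson radical, `M` finite over `S`. -/
theorem flat_of_lexQuot [IsNoetherianRing R] [IsNoetherianRing S] [Module.Finite S M]
    (hI : I.map (algebraMap R S) ≤ Ideal.jacobson ⊥) (h : LexQuot I M) : Module.Flat R M := by
  rw [Module.Flat.iff_lTensor_injective']
  intro J
  rw [injective_iff_map_eq_zero]
  intro x hx
  haveI := finite_tensor S (M := M) (R := R) J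
  have hmem : x ∈ (⨅ i : ℕ, (I.map (algebraMap R S)) ^ i • ⊤ : Submodule S (M ⊗[R] J)) := by
    rw [Submodule.mem_iInf]
    intro k
    rw [← Ideal.map_pow]
    exact smul_top_restrictScalars_le _ (h.mem_pow_smul J x hx k)
  rw [Ideal.iInf_pow_smul_eq_bot_of_le_jacobson _ hI] at hmem
  exact hmem

theorem flat_of_lexQuot_of_isLocalRing [IsNoetherianRing R] [IsLocalRing R] [IsLocalRing S]
    [IsLocalHom (algebraMap R S)] [IsNoetherianRing S] [Module.Finite S M]
    (hI : I ≠ ⊤) (h : LexQuot I M) : Module.Flat R M := by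
  refine flat_of_lexQuot (S := S) ?_ h
  rw [IsLocalRing.jacobson_eq_maximalIdeal ⊥ bot_ne_top, Ideal.map_le_iff_le_comap]
  intro x hx
  exact fun hu => IsLocalRing.le_maximalIdeal hI hx (isUnit_of_map_unit (algebraMap R S) x hu)

end OverS

end Groth.Agent.FlatCrit65
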