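import Groth.Agent.FlatCrit65.Fibre
import Mathlib.LinearAlgebra.Dimension.Free
import Mathlib.RingTheory.Finiteness.Basic
import Mathlib.LinearAlgebra.FreeModule.Basic

/-!
Lifting a basis of the fibre of a flat module.
-/

universe u

open TensorProduct

namespace Groth.Agent.FlatCrit65

variable {R S M : Type u} [CommRing R] [CommRing S] [Algebra R S] [AddCommGroup M] [Module R M]
  [Module S M] [IsScalarTower R S M]

lemma exists_one_tmul (J : Ideal S) (y : (S ⧸ J) ⊗[S] M) : ∃ m, y = (1 : S ⧸ J) ⊗ₜ[S] m := by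
  induction y with
  | zero => exact ⟨0, (tmul_zero _ _).symm⟩
  | add a b ha hb =>
    obtain ⟨x, rfl⟩ := ha
    obtain ⟨y, rfl⟩ := hb
    exact ⟨x + y, (tmul_add _ _ _).symm⟩
  | tmul a x =>
    obtain ⟨a, rfl⟩ := Ideal.Quotient.mk_surjective a
    refine ⟨a • x, ?_⟩
    rw [tmul_smul, smul_tmul', Algebra.smul_def, mul_one]
    rfl

theorem free_of_free_fibre [IsNoetherianRing S] [Module.Finite S M] [Module.Flat R M]
    (m : Ideal R) [m.IsMaximal] (hm : m.map (algebraMap R S) ≤ Ideal.jacobson ⊥)
    [Nontrivial (S ⧸ m.map (algebraMap R S))]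
    (h : Module.Free (S ⧸ m.map (algebraMap R S)) ((S ⧸ m.map (algebraMap R S)) ⊗[S] M)) :
    Module.Free S M := by
  set J := m.map (algebraMap R S) with hJ
  let e := Module.Free.chooseBasis (S ⧸ J) ((S ⧸ J) ⊗[S] M)
  let ι := Module.Free.ChooseBasisIndex (S ⧸ J) ((S ⧸ J) ⊗[S] M)
  have : Fintype ι := Module.Free.ChooseBasisIndex.fintype _ _
  choose b hb using fun i => exists_one_tmul J (e i)
  let φ : (ι →₀ S) →ₗ[S] M := Finsupp.linearCombination S b
  have key : ∀ n : ι →₀ S, (1 : S ⧸ J) ⊗ₜ[S] φ n =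
      Finsupp.linearCombination (S ⧸ J) e (n.mapRange (Ideal.Quotient.mk J) (map_zero _)) := by
    intro n
    rw [Finsupp.linearCombination_apply (S ⧸ J), Finsupp.sum_mapRange_index (by simp)]
    simp only [φ, Finsupp.linearCombination_apply, Finsupp.sum, tmul_sum]
    refine Finset.sum_congr rfl fun i _ => ?_
    rw [hb, tmul_smul, smul_tmul', smul_tmul']
    simp [Algebra.smul_def]
  have hsurj : Function.Surjective φ := by
    rw [← LinearMap.range_eq_top, eq_top_iff]
    apply Submodule.le_of_le_smul_of_le_jacobson_bot Module.Finite.fg_top hm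
    intro x _
    obtain ⟨c, hc⟩ := Finsupp.mapRange_surjective (α := ι) (Ideal.Quotient.mk J) (map_zero _)
      Ideal.Quotient.mk_surjective (e.repr ((1 : S ⧸ J) ⊗ₜ[S] x))
    have h1 : (1 : S ⧸ J) ⊗ₜ[S] (x - φ c) = 0 := by
      rw [tmul_sub, key, hc, e.linearCombination_repr, sub_self]
    exact Submodule.mem_sup.mpr ⟨φ c, LinearMap.mem_range_self φ c, x - φ c,
      (one_tmul_eq_zero_iff J _).mp h1, by simp⟩
  have hinj : Function.Injective φ := by
    have := injective_and_flat_quotient (S := S) m hm (φ.restrictScalars R) ?_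
    · exact this.1
    apply lTensor_quot_injective
    intro n hn
    have h1 : (1 : S ⧸ J) ⊗ₜ[S] φ n = 0 :=
      (one_tmul_eq_zero_iff J _).mpr (smul_top_restrictScalars_le _ hn)
    rw [key] at h1
    have h2 := linearIndependent_iff.mp e.linearIndependent _ h1
    apply mem_smul_restrictScalars (S := S)
    rw [← n.sum_single]
    refine Submodule.sum_mem _ fun i _ => ?_
    rw [show Finsupp.single i (n i) = n i • Finsupp.single i 1 by simp]
    exact Submodule.smul_mem_smul
      (Ideal.Quotient.eq_zero_iff_mem.mp (by simpa using DFunLike.congr_fun h2 i)) Submodule.mem_top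
  exact Module.Free.of_equiv (LinearEquiv.ofBijective φ ⟨hinj, hsurj⟩)

theorem flat_of_free [Nontrivial M] [Module.Free S M] [Module.Flat R M] : Module.Flat R S := by
  let b := Module.Free.chooseBasis S M
  have : Nonempty (Module.Free.ChooseBasisIndex S M) := b.index_nonempty
  obtain ⟨i⟩ := this
  refine Module.Flat.of_retract
    ((LinearMap.toSpanSingleton S M (b i)).restrictScalars R) ((b.coord i).restrictScalars R) ?_
  ext
  simp [Module.Basis.coord_apply]

end Groth.Agent.FlatCrit65
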