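import Groth.Agent.FlatMor67.WEReduced
import Mathlib.RingTheory.Etale.Weakly
import Mathlib.RingTheory.PolynomialAlgebra
import Mathlib.RingTheory.Flat.TorsionFree
import Mathlib.RingTheory.RingHom.Flat
import Mathlib.FieldTheory.Separable

/-!
Weakly etale field extensions are separable algebraic.
-/

universe u

open TensorProduct Polynomial

namespace Groth.Agent.FlatCrit65

variable {K L : Type u} [Field K] [Field L] [Algebra K L] [Algebra.WeaklyEtale K L]

lemma isAlgebraic_of_weaklyEtale (x : L) : IsAlgebraic K x := by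
  by_contra hx
  have hinj : Function.Injective (aeval (R := K) x) := transcendental_iff_injective.mp hx
  let φ : K[X] →ₐ[K] L := aeval x
  have hφ : φ.toRingHom.Flat := by
    let inst : Algebra K[X] L := φ.toRingHom.toAlgebra
    have : Module.IsTorsionFree K[X] L := by
      refine ⟨fun r hr a b hab => ?_⟩
      have hr0 : φ r ≠ 0 := fun h0 => hr.ne_zero (hinj (h0.trans (map_zero φ).symm))
      exact mul_left_cancel₀ hr0 hab
    exact (inferInstance : Module.Flat K[X] L)
  let Φ : K[X] ⊗[K] K[X] →ₐ[K] L ⊗[K] L := Algebra.TensorProduct.map φ φ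
  have hΦ : Φ.toRingHom.Flat := RingHom.Flat.tensorProductMap hφ hφ
  have : IsDomain (K[X] ⊗[K] K[X]) := (polyEquivTensor K K[X]).toMulEquiv.isDomain_iff.mp inferInstance
  set a : K[X] ⊗[K] K[X] := X ⊗ₜ 1 - 1 ⊗ₜ X with ha
  have ha0 : a ≠ 0 := by
    intro h0
    have := congrArg (Algebra.TensorProduct.lift (aeval (0 : K)) (aeval (1 : K))
      (fun _ _ => .all _ _)) h0
    simp [a] at this
  set I := RingHom.ker (Algebra.TensorProduct.lmul' K (S := L)).toRingHom
  have hmem : Φ a ∈ I := by
    rw [RingHom.mem_ker]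
    simp [Φ, φ, a]
  have : I.Pure := FlatMor67.pure_ker_lmul' (Algebra.WeaklyEtale.flat_lmul' K L)
  obtain ⟨e, he, heq⟩ := Ideal.exists_eq_mul_of_pure hmem
  let inst : Algebra (K[X] ⊗[K] K[X]) (L ⊗[K] L) := Φ.toRingHom.toAlgebra
  have : Module.Flat (K[X] ⊗[K] K[X]) (L ⊗[K] L) := hΦ
  have hreg : IsSMulRegular (L ⊗[K] L) a :=
    Module.Flat.isSMulRegular_of_nonZeroDivisors (mem_nonZeroDivisors_of_ne_zero ha0)
  have he1 : e = 1 := by
    apply hreg
    show Φ a * e = Φ a * 1
    rw [mul_one, ← heq]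
  rw [he1, RingHom.mem_ker] at he
  simp at he

lemma isSeparable_of_weaklyEtale (x : L) : IsSeparable K x := by
  have hx : IsIntegral K x := (isAlgebraic_of_weaklyEtale x).isIntegral
  show (minpoly K x).Separable
  rw [Polynomial.separable_iff_derivative_ne_zero (minpoly.irreducible hx)]
  intro hder
  set f := minpoly K x with hf
  have : IsReduced (L ⊗[K] L) := FlatMor67.isReduced_of_weaklyEtale L (L ⊗[K] L)
  -- `x` is a double root of `f`
  set F : L[X] := f.map (algebraMap K L) with hF
  have hroot : F.IsRoot x := by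
    rw [IsRoot, hF, eval_map, ← aeval_def, hf, minpoly.aeval]
  obtain ⟨g, hg⟩ := dvd_iff_isRoot.mpr hroot
  have hg0 : g.IsRoot x := by
    have h1 : derivative F = 0 := by rw [hF, derivative_map, hder, Polynomial.map_zero]
    rw [hg, derivative_mul] at h1
    have := congrArg (Polynomial.eval x) h1
    simpa using this
  obtain ⟨h, hh⟩ := dvd_iff_isRoot.mpr hg0
  let ψ : L[X] →ₐ[L] L ⊗[K] L := aeval ((1 : L) ⊗ₜ[K] x)
  have hψF : ψ F = 0 := by
    rw [hF, show ψ (f.map (algebraMap K L)) = aeval ((1 : L) ⊗ₜ[K] x) f from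
      aeval_map_algebraMap L _ f,
      show ((1 : L) ⊗ₜ[K] x) = (Algebra.TensorProduct.includeRight (R := K) (A := L)) x from rfl,
      aeval_algHom_apply, hf, minpoly.aeval, map_zero]
  have hν : ψ g = 0 := by
    apply IsReduced.eq_zero
    refine ⟨2, ?_⟩
    rw [← map_pow, show g ^ 2 = F * h by rw [hg, pow_two]; nth_rewrite 1 [hh]; ring, map_mul, hψF,
      zero_mul]
  have hFmonic : F.Monic := (minpoly.monic hx).map _
  have hgne : g ≠ 0 := by
    rintro rfl
    exact hFmonic.ne_zero (by rw [hg, mul_zero])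
  have hdeg : g.natDegree < f.natDegree := by
    have h1 : F.natDegree = f.natDegree := (minpoly.monic hx).natDegree_map _
    rw [← h1, hg, natDegree_mul (X_sub_C_ne_zero x) hgne, natDegree_X_sub_C]
    omega
  -- powers of `1 ⊗ x` below the degree are linearly independent
  have hli : LinearIndependent K (fun i : Fin f.natDegree => x ^ (i : ℕ)) :=
    linearIndependent_pow x
  have hli' := Module.Flat.linearIndependent_one_tmul (S := L) hli
  have hsum : ∑ i : Fin f.natDegree, g.coeff i • ((1 : L) ⊗ₜ[K] (x ^ (i : ℕ))) = 0 := by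
    rw [← hν]
    show _ = aeval ((1 : L) ⊗ₜ[K] x) g
    rw [aeval_eq_sum_range' hdeg, ← Fin.sum_univ_eq_sum_range (fun i => g.coeff i • ((1 : L) ⊗ₜ[K] x) ^ i)]
    refine Finset.sum_congr rfl fun i _ => ?_
    rw [Algebra.TensorProduct.tmul_pow, one_pow]
  have hzero := Fintype.linearIndependent_iff.mp hli' _ hsum
  apply hgne
  ext n
  rcases lt_or_ge n f.natDegree with hn | hn
  · exact hzero ⟨n, hn⟩
  · exact coeff_eq_zero_of_natDegree_lt (hdeg.trans_le hn)

end Groth.Agent.FlatCrit65
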