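import Groth.Agent.FlatCrit65.Injective
import Mathlib.RingTheory.Flat.FaithfullyFlat.Basic
import Mathlib.RingTheory.Nakayama
import Mathlib.RingTheory.LocalRing.RingHom.Basic

/-!
Consequences of the criterion for flatness for a composite `R → S → S'`.
-/

set_option linter.style.haveILetI false

universe u

open TensorProduct

namespace Groth.Agent.FlatCrit65

variable {R : Type u} [CommRing R]

lemma lTensor_quot_injective {M N : Type u} [AddCommGroup M] [Module R M] [AddCommGroup N]
    [Module R N] (f : N →ₗ[R] M) (J : Ideal R)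
    (h : ∀ n, f n ∈ J • (⊤ : Submodule R M) → n ∈ J • (⊤ : Submodule R N)) :
    Function.Injective (f.lTensor (R ⧸ J)) := by
  rw [injective_iff_map_eq_zero]
  intro x hx
  obtain ⟨n, rfl⟩ : ∃ n, x = (1 : R ⧸ J) ⊗ₜ[R] n := by
    clear hx
    induction x with
    | zero => exact ⟨0, (tmul_zero _ _).symm⟩
    | add a b ha hb =>
      obtain ⟨x, rfl⟩ := ha
      obtain ⟨y, rfl⟩ := hb
      exact ⟨x + y, (tmul_add _ _ _).symm⟩
    | tmul a x =>
      obtain ⟨a, rfl⟩ := Ideal.Quotient.mk_surjective a
      refine ⟨a • x, ?_⟩
      rw [tmul_smul, smul_tmul', Algebra.smul_def, mul_one]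
      rfl
  rw [LinearMap.lTensor_tmul, one_tmul_eq_zero_iff] at hx
  exact (one_tmul_eq_zero_iff J n).mpr (h n hx)

lemma mem_smul_restrictScalars {S : Type u} [CommRing S] [Algebra R S] {N : Type u} [AddCommGroup N]
    [Module R N] [Module S N] [IsScalarTower R S N] (J : Ideal R) {x : N}
    (hx : x ∈ J.map (algebraMap R S) • (⊤ : Submodule S N)) : x ∈ J • (⊤ : Submodule R N) := by
  rw [← Submodule.restrictScalars_mem R, Ideal.smul_restrictScalars,
    Submodule.restrictScalars_top] at hx
  exact hx

variable {S : Type u} [CommRing S] [Algebra R S] {M : Type u} [AddCommGroup M] [Module R M]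
  [Module S M] [IsScalarTower R S M] (I : Ideal R)

/-- The surjection `M ⊗[R] I → M ⊗[S] I S` shows that `I S ⊗ M → M` is injective if `M` is flat. -/
lemma injective_lTensor_map [Module.Flat R M] :
    Function.Injective ((I.map (algebraMap R S)).subtype.lTensor M) := by
  set J := I.map (algebraMap R S) with hJ
  let p : M ⊗[R] I →ₗ[R] M ⊗[S] J :=
    TensorProduct.lift (LinearMap.mk₂ R (fun (m : M) (a : I) =>
        m ⊗ₜ[S] (⟨algebraMap R S a, Ideal.mem_map_of_mem _ a.2⟩ : J))
      (fun m m' a => add_tmul m m' _)
      (fun c m a => (smul_tmul' c m _).symm)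
      (fun m a a' => by rw [← tmul_add]; congr 1; ext; simp)
      (fun c m a => by
        rw [← tmul_smul]; congr 1; ext
        simp [Algebra.smul_def]))
  have hp : Function.Surjective p := by
    intro x
    induction x with
    | zero => exact ⟨0, map_zero p⟩
    | add a b ha hb =>
      obtain ⟨a, rfl⟩ := ha
      obtain ⟨b, rfl⟩ := hb
      exact ⟨a + b, map_add p a b⟩
    | tmul m j =>
      obtain ⟨j, hj⟩ := j
      suffices H : ∀ m : M, ∃ y, p y = m ⊗ₜ[S] (⟨j, hj⟩ : J) from H m
      have hj' : j ∈ Submodule.span S (algebraMap R S '' I) := hj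
      clear m
      induction hj' using Submodule.span_induction with
      | mem x hx =>
        obtain ⟨a, ha, rfl⟩ := hx
        exact fun m => ⟨m ⊗ₜ[R] ⟨a, ha⟩, rfl⟩
      | zero =>
        intro m
        refine ⟨0, ?_⟩
        rw [map_zero]
        show 0 = m ⊗ₜ[S] (0 : J)
        rw [tmul_zero]
      | add x y hx hy ihx ihy =>
        intro m
        obtain ⟨u, hu⟩ := ihx hx m
        obtain ⟨v, hv⟩ := ihy hy m
        exact ⟨u + v, by rw [map_add, hu, hv, ← tmul_add]; rfl⟩
      | smul c x hx ih =>
        intro m
        obtain ⟨u, hu⟩ := ih hx (c • m)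
        exact ⟨u, by rw [hu, smul_tmul]; rfl⟩
  let μ : M ⊗[R] I →ₗ[R] M := (TensorProduct.rid R M).toLinearMap ∘ₗ I.subtype.lTensor M
  have hμ : Function.Injective μ := by
    simp only [μ, LinearMap.coe_comp, LinearEquiv.coe_coe]
    exact (LinearEquiv.injective _).comp
      (Module.Flat.lTensor_preserves_injective_linearMap _ I.injective_subtype)
  have key : ∀ y, TensorProduct.rid S M (J.subtype.lTensor M (p y)) = μ y := by
    intro y
    induction y with
    | zero => simp
    | add a b ha hb => simp [map_add, ha, hb]
    | tmul m a => simp [p, μ]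
  rw [injective_iff_map_eq_zero]
  intro x hx
  obtain ⟨y, rfl⟩ := hp x
  have : μ y = 0 := by rw [← key, hx, map_zero]
  rw [(injective_iff_map_eq_zero _).mp hμ y this, map_zero]

/-- If `M` is `R`-flat and faithfully flat over `S`, then `I ⊗ S → S` is injective. -/
lemma injective_lTensor_of_faithfullyFlat [Module.Flat R M] [Module.FaithfullyFlat S M] :
    Function.Injective (I.subtype.lTensor S) := by
  let μ : S ⊗[R] I →ₗ[S] S :=
    (AlgebraTensorModule.rid R S S).toLinearMap ∘ₗ AlgebraTensorModule.lTensor S S I.subtype
  have hμ : Function.Injective (μ.lTensor M) := by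
    have key : ∀ y, TensorProduct.rid S M (μ.lTensor M y) = TensorProduct.rid R M
        (I.subtype.lTensor M (AlgebraTensorModule.cancelBaseChange R S S M I y)) := by
      intro y
      induction y with
      | zero => simp
      | add a b ha hb => simp [map_add, ha, hb]
      | tmul m z =>
        induction z with
        | zero => simp
        | add a b ha hb => simp only [tmul_add, map_add, ha, hb]
        | tmul s a => simp [μ, smul_tmul', smul_comm (a : R)]
    rw [injective_iff_map_eq_zero]
    intro y hy
    have h := key y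
    rw [hy, map_zero] at h
    have h1 : I.subtype.lTensor M (AlgebraTensorModule.cancelBaseChange R S S M I y) = 0 :=
      (TensorProduct.rid R M).injective (by rw [← h, map_zero])
    have h2 := (injective_iff_map_eq_zero _).mp
      (Module.Flat.lTensor_preserves_injective_linearMap (M := M) _ I.injective_subtype) _ h1
    exact (AlgebraTensorModule.cancelBaseChange R S S M I).injective (by rw [h2, map_zero])
  have hker : Subsingleton (M ⊗[S] LinearMap.ker μ) := by
    have h0 := Module.Flat.lTensor_preserves_injective_linearMap (M := M) _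
      (LinearMap.ker μ).injective_subtype
    have h1 : ∀ y, (LinearMap.ker μ).subtype.lTensor M y = 0 := by
      intro y
      apply hμ
      rw [map_zero, ← LinearMap.lTensor_comp_apply,
        show μ ∘ₗ (LinearMap.ker μ).subtype = 0 from LinearMap.ext fun z => z.2,
        LinearMap.lTensor_zero, LinearMap.zero_apply]
    exact subsingleton_of_forall_eq 0 fun y => h0 (by rw [h1 y, map_zero])
  have : Subsingleton (LinearMap.ker μ) :=
    Module.FaithfullyFlat.lTensor_reflects_triviality S M _
  rw [injective_iff_map_eq_zero]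
  intro x hx
  have hx' : x ∈ LinearMap.ker μ := by
    simp [μ, LinearMap.mem_ker, hx]
  exact congrArg Subtype.val (Subsingleton.elim (⟨x, hx'⟩ : LinearMap.ker μ) 0)

lemma faithfullyFlat_of_isLocalHom {S' : Type u} [CommRing S'] [Algebra S S'] [IsLocalRing S]
    [IsLocalRing S'] [IsLocalHom (algebraMap S S')] [Module S' M] [IsScalarTower S S' M]
    [Module.Finite S' M] [Nontrivial M] [Module.Flat S M] : Module.FaithfullyFlat S M := by
  refine ⟨fun m hm h => ?_⟩
  obtain rfl := IsLocalRing.eq_maximalIdeal hm
  have hle : (IsLocalRing.maximalIdeal S).map (algebraMap S S') ≤ Ideal.jacobson ⊥ := by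
    rw [IsLocalRing.jacobson_eq_maximalIdeal ⊥ bot_ne_top, Ideal.map_le_iff_le_comap]
    exact fun x hx hu => hx (isUnit_of_map_unit (algebraMap S S') x hu)
  have h' : (⊤ : Submodule S' M) ≤ (IsLocalRing.maximalIdeal S).map (algebraMap S S') • ⊤ :=
    fun x _ => smul_top_restrictScalars_le _ (by rw [h]; exact Submodule.mem_top)
  have := Submodule.eq_bot_of_le_smul_of_le_jacobson_bot _ _ Module.Finite.fg_top h' hle
  exact top_ne_bot (α := Submodule S' M) this

end Groth.Agent.FlatCrit65
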