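import Mathlib.RingTheory.LocalRing.Module
import Mathlib.RingTheory.Flat.Tensor
import Mathlib.LinearAlgebra.TensorProduct.Vanishing
import Mathlib.LinearAlgebra.TensorProduct.Prod
import Mathlib.LinearAlgebra.Finsupp.LinearCombination
import Mathlib.Algebra.Module.Projective
import Mathlib.LinearAlgebra.DirectSum.Finsupp

/-!
Maps from projective to flat modules which are injective modulo the maximal ideal.
-/

universe u

open TensorProduct

namespace Groth.Agent.FlatCrit65

variable {R : Type u} [CommRing R]

lemma flat_prod (N F : Type u) [AddCommGroup N] [Module R N] [AddCommGroup F] [Module R F]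
    [Module.Flat R N] [Module.Flat R F] : Module.Flat R (N × F) := by
  rw [Module.Flat.iff_rTensor_injective']
  intro J
  rw [injective_iff_map_eq_zero]
  intro x hx
  have key : ∀ y, TensorProduct.prodRight R R R N F (J.subtype.rTensor (N × F) y) =
      Prod.map (J.subtype.rTensor N) (J.subtype.rTensor F) (TensorProduct.prodRight R R J N F y) := by
    intro y
    induction y with
    | zero => simp [Prod.map, Prod.zero_eq_mk]
    | add a b ha hb => simp [map_add, ha, hb, Prod.map]
    | tmul a b => simp
  have h := key x
  rw [hx, map_zero] at h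
  apply (TensorProduct.prodRight R R J N F).injective
  rw [map_zero]
  apply Prod.map_injective.mpr
    ⟨Module.Flat.rTensor_preserves_injective_linearMap (M := N) _ J.injective_subtype,
      Module.Flat.rTensor_preserves_injective_linearMap (M := F) _ J.injective_subtype⟩
  rw [← h]
  simp [Prod.map, Prod.zero_eq_mk]

variable [IsLocalRing R] {N : Type u} [AddCommGroup N] [Module R N] [Module.Flat R N]

lemma eq_zero_of_free {ι : Type u} (u : (ι →₀ R) →ₗ[R] N)
    (h : Function.Injective (u.lTensor (IsLocalRing.ResidueField R)))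
    {Q : Type u} [AddCommGroup Q] [Module R Q] (x : Q ⊗[R] (ι →₀ R))
    (hx : u.lTensor Q x = 0) : x = 0 := by
  classical
  obtain ⟨s, q, rfl⟩ : ∃ (s : Finset ι) (q : ι → Q),
      x = ∑ i ∈ s, q i ⊗ₜ[R] Finsupp.single i 1 := by
    refine ⟨(TensorProduct.finsuppScalarRight R R Q ι x).support,
      TensorProduct.finsuppScalarRight R R Q ι x, ?_⟩
    apply (TensorProduct.finsuppScalarRight R R Q ι).injective
    rw [map_sum]
    ext i
    simp only [Finsupp.finsetSum_apply, TensorProduct.finsuppScalarRight_apply_tmul_apply,
      Finsupp.single_apply]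
    simp [ite_smul]
  have hsum : ∑ i : s, q i ⊗ₜ[R] u (Finsupp.single (i : ι) 1) = 0 := by
    rw [Finset.sum_coe_sort s (fun i => q i ⊗ₜ[R] u (Finsupp.single i 1))]
    simpa [map_sum] using hx
  obtain ⟨k, a, y, hay, haq⟩ :=
    TensorProduct.vanishesTrivially_of_sum_tmul_eq_zero_of_rTensor_injective R
      (Module.Flat.rTensor_preserves_injective_linearMap (M := N) _ (Submodule.injective_subtype _))
      hsum
  let A : (s → R) →ₗ[R] (Fin k → R) := Fintype.linearCombination R a
  let g : (s → R) →ₗ[R] (ι →₀ R) :=
    Fintype.linearCombination R fun i : s => Finsupp.single (i : ι) 1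
  let h' : (Fin k → R) →ₗ[R] N := Fintype.linearCombination R y
  have hcomp : h' ∘ₗ A = u ∘ₗ g := by
    refine LinearMap.pi_ext' fun i => LinearMap.ext_ring ?_
    simp [A, g, h', Fintype.linearCombination_apply, Pi.single_apply, hay i]
  have hg : Function.Injective (g.lTensor (IsLocalRing.ResidueField R)) := by
    let r : (ι →₀ R) →ₗ[R] (s → R) := LinearMap.pi fun i => Finsupp.lapply (i : ι)
    have hrg : r ∘ₗ g = LinearMap.id := by
      refine LinearMap.pi_ext' fun i => LinearMap.ext_ring ?_
      ext j
      simp [r, g, Fintype.linearCombination_apply, Finsupp.single_apply]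
    refine Function.HasLeftInverse.injective ⟨r.lTensor _, fun z => ?_⟩
    rw [← LinearMap.lTensor_comp_apply, hrg, LinearMap.lTensor_id, LinearMap.id_apply]
  have hA : Function.Injective (A.lTensor (IsLocalRing.ResidueField R)) := by
    have := h.comp hg
    rw [← LinearMap.coe_comp, ← LinearMap.lTensor_comp, ← hcomp, LinearMap.lTensor_comp,
      LinearMap.coe_comp] at this
    exact this.of_comp
  obtain ⟨B, hB⟩ := (IsLocalRing.split_injective_iff_lTensor_residueField_injective A).mpr hA
  have hq : ∀ i : s, q i = 0 := by
    intro i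
    have hδ : ∀ c : s, ∑ j, a c j * B (Pi.single j 1) i = if c = i then 1 else 0 := by
      intro c
      have h1 := congrFun (LinearMap.congr_fun hB (Pi.single c 1)) i
      rw [LinearMap.comp_apply, LinearMap.id_apply] at h1
      rw [pi_eq_sum_univ' (A (Pi.single c 1)), map_sum, Finset.sum_apply] at h1
      simp only [A, Fintype.linearCombination_apply, Pi.single_apply, Finset.sum_apply, map_smul,
        Pi.smul_apply, smul_eq_mul, ite_mul, one_mul, zero_mul, Finset.sum_ite_eq', Finset.mem_univ,
        if_true] at h1
      rw [h1]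
      simp only [eq_comm]
    have h2 : ∑ c : s, (∑ j, a c j * B (Pi.single j 1) i) • q c = q i := by
      simp [hδ, ite_smul]
    rw [← h2]
    simp only [Finset.sum_smul]
    rw [Finset.sum_comm]
    refine Finset.sum_eq_zero fun j _ => ?_
    simp_rw [mul_comm (a _ j), mul_smul, ← Finset.smul_sum, haq j, smul_zero]
  exact Finset.sum_eq_zero fun i hi => by rw [hq ⟨i, hi⟩, zero_tmul]

theorem lTensor_injective_of_projective {M : Type u} [AddCommGroup M] [Module R M]
    [Module.Projective R M] (u : M →ₗ[R] N)
    (h : Function.Injective (u.lTensor (IsLocalRing.ResidueField R)))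
    (Q : Type u) [AddCommGroup Q] [Module R Q] : Function.Injective (u.lTensor Q) := by
  obtain ⟨i, hi⟩ := (Module.projective_def' (R := R) (P := M)).mp inferInstance
  let r : (M →₀ R) →ₗ[R] M := Finsupp.linearCombination R id
  have hri : r ∘ₗ i = LinearMap.id := hi
  have := flat_prod (R := R) N (M →₀ R)
  let u' : (M →₀ R) →ₗ[R] N × (M →₀ R) := (u ∘ₗ r).prod (LinearMap.id - i ∘ₗ r)
  have hu' : Function.Injective (u'.lTensor (IsLocalRing.ResidueField R)) := by
    rw [injective_iff_map_eq_zero]
    intro z hz
    have h1 : u.lTensor _ (r.lTensor (IsLocalRing.ResidueField R) z) = 0 := by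
      rw [← LinearMap.lTensor_comp_apply,
        show u ∘ₗ r = LinearMap.fst R N (M →₀ R) ∘ₗ u' by ext x; simp [u'],
        LinearMap.lTensor_comp_apply, hz, map_zero]
    have h2 : r.lTensor (IsLocalRing.ResidueField R) z = 0 :=
      (injective_iff_map_eq_zero _).mp h _ h1
    have h3 : (LinearMap.id - i ∘ₗ r).lTensor (IsLocalRing.ResidueField R) z = 0 := by
      rw [show (LinearMap.id - i ∘ₗ r) = LinearMap.snd R N (M →₀ R) ∘ₗ u' by ext x; simp [u'],
        LinearMap.lTensor_comp_apply, hz, map_zero]
    simpa [LinearMap.lTensor_sub, LinearMap.lTensor_comp_apply, h2] using h3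
  rw [injective_iff_map_eq_zero]
  intro x hx
  have h0 : u'.lTensor Q (i.lTensor Q x) = 0 := by
    rw [← LinearMap.lTensor_comp_apply,
      show u' ∘ₗ i = LinearMap.inl R N (M →₀ R) ∘ₗ u by
        refine LinearMap.ext fun m => ?_
        have := LinearMap.congr_fun hri m
        simp only [LinearMap.comp_apply, LinearMap.id_apply] at this
        simp [u', this],
      LinearMap.lTensor_comp_apply, hx, map_zero]
  have h4 := eq_zero_of_free u' hu' _ h0
  have := congrArg (r.lTensor Q) h4
  rwa [map_zero, ← LinearMap.lTensor_comp_apply, hri, LinearMap.lTensor_id,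
    LinearMap.id_apply] at this

end Groth.Agent.FlatCrit65
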