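import Groth.Agent.FlatCrit65.Nilpotent
import Mathlib.RingTheory.FiniteType
import Mathlib.RingTheory.Nilpotent.Lemmas
import Mathlib.RingTheory.Noetherian.Nilpotent
import Mathlib.AlgebraicGeometry.Morphisms.ClosedImmersion
import Mathlib.AlgebraicGeometry.Morphisms.FiniteType
import Mathlib.AlgebraicGeometry.Morphisms.Affine

/-!
Closed immersions detected after base change along a bijective closed immersion.
-/

universe u

open TensorProduct

namespace Groth.Agent.FlatCrit65

theorem surjective_of_surjective_mod_nil {A B : Type u} [CommRing A] [CommRing B] [Algebra A B]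
    [Algebra.FiniteType A B] (I : Ideal A) (hI : I ≤ nilradical A)
    (h : ∀ b : B, ∃ a : A, b - algebraMap A B a ∈ I.map (algebraMap A B)) :
    Function.Surjective (algebraMap A B) := by
  classical
  obtain ⟨s, hs⟩ := ‹Algebra.FiniteType A B›.out
  choose a ha using h
  have hfg : ∀ b : B, ∃ J : Ideal A, J.FG ∧ J ≤ I ∧ b - algebraMap A B (a b) ∈ J.map (algebraMap A B) := by
    intro b
    obtain ⟨T, hT, hbT⟩ := Submodule.mem_span_finite_of_mem_span
      (show b - algebraMap A B (a b) ∈ Submodule.span B (algebraMap A B '' (I : Set A)) from ha b)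
    obtain ⟨T', hT', rfl⟩ := Finset.subset_set_image_iff.mp hT
    refine ⟨Ideal.span T', ⟨T', rfl⟩, Ideal.span_le.mpr hT', ?_⟩
    rw [Ideal.map_span, ← Finset.coe_image]
    exact hbT
  choose J hJfg hJle hJ using hfg
  let I₀ := ⨆ b ∈ s, J b
  have hI₀fg : I₀.FG := Submodule.fg_biSup s J fun b _ => hJfg b
  have hI₀le : I₀ ≤ I := iSup₂_le fun b _ => hJle b
  obtain hnil : IsNilpotent I₀ := hI₀fg.isNilpotent_iff_le_nilradical.mpr (hI₀le.trans hI)
  let P : Submodule A B := LinearMap.range (Algebra.linearMap A B)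
  have hP : P ⊔ I₀ • (⊤ : Submodule A B) = ⊤ := by
    rw [eq_top_iff, Ideal.smul_top_eq_map]
    rintro b -
    have hb : b ∈ Algebra.adjoin A (s : Set B) := hs ▸ Algebra.mem_top
    induction hb using Algebra.adjoin_induction with
    | mem x hx =>
      have hmem : x - algebraMap A B (a x) ∈ I₀.map (algebraMap A B) :=
        Ideal.map_mono (le_biSup J hx) (hJ x)
      exact Submodule.mem_sup.mpr ⟨_, LinearMap.mem_range_self _ (a x), _, hmem, by simp⟩
    | algebraMap r => exact Submodule.mem_sup_left (LinearMap.mem_range_self _ r)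
    | add x y _ _ hx hy => exact add_mem hx hy
    | mul x y _ _ hx hy =>
      obtain ⟨_, ⟨p, rfl⟩, i, hi, rfl⟩ := Submodule.mem_sup.mp hx
      obtain ⟨_, ⟨q, rfl⟩, j, hj, rfl⟩ := Submodule.mem_sup.mp hy
      refine Submodule.mem_sup.mpr ⟨_, LinearMap.mem_range_self _ (p * q),
        algebraMap A B p * j + i * (algebraMap A B q + j), ?_, ?_⟩
      · exact add_mem (Ideal.mul_mem_left _ _ hj) (Ideal.mul_mem_right _ _ hi)
      · simp only [Algebra.linearMap_apply, map_mul]; ring
  have := eq_top_of_sup_smul_top_of_isNilpotent hnil hP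
  intro b
  obtain ⟨x, hx⟩ := (this ▸ Submodule.mem_top : b ∈ P)
  exact ⟨x, hx⟩

open CategoryTheory Limits AlgebraicGeometry

theorem isClosedImmersion_Spec {A B : Type u} [CommRing A] [CommRing B] [Algebra A B]
    [Algebra.FiniteType A B] (I : Ideal A) (hI : I ≤ nilradical A)
    [IsClosedImmersion (pullback.snd (Spec.map (CommRingCat.ofHom (algebraMap A B)))
      (Spec.map (CommRingCat.ofHom (algebraMap A (A ⧸ I)))))] :
    IsClosedImmersion (Spec.map (CommRingCat.ofHom (algebraMap A B))) := by
  apply IsClosedImmersion.spec_of_surjective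
  apply surjective_of_surjective_mod_nil I hI
  have h : IsClosedImmersion (Spec.map (CommRingCat.ofHom
      (Algebra.TensorProduct.includeRight (R := A) (A := B) (B := A ⧸ I)).toRingHom)) := by
    have := pullbackSpecIso_inv_snd A B (A ⧸ I)
    rw [show (Algebra.TensorProduct.includeRight (R := A) (A := B) (B := A ⧸ I)).toRingHom
      = (Algebra.TensorProduct.includeRight (R := A) (A := B) (B := A ⧸ I) : (A ⧸ I) →+* _) from rfl]
    exact this ▸ inferInstance
  obtain ⟨_, hsurj⟩ := IsClosedImmersion.isAffine_surjective_of_isAffine (Spec.map (CommRingCat.ofHom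
      (Algebra.TensorProduct.includeRight (R := A) (A := B) (B := A ⧸ I)).toRingHom))
  have hs : Function.Surjective
      (Algebra.TensorProduct.includeRight (R := A) (A := B) (B := A ⧸ I)) := by
    intro z
    obtain ⟨w, hw⟩ := hsurj ((Scheme.ΓSpecIso _).inv z)
    obtain ⟨v, rfl⟩ := (ConcreteCategory.bijective_of_isIso (Scheme.ΓSpecIso (.of (A ⧸ I))).inv).2 w
    refine ⟨v, (ConcreteCategory.bijective_of_isIso (Scheme.ΓSpecIso (.of (B ⊗[A] (A ⧸ I)))).inv).1 ?_⟩
    rw [← hw]
    exact (ConcreteCategory.congr_hom (Scheme.ΓSpecIso_inv_naturality (CommRingCat.ofHom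
      (Algebra.TensorProduct.includeRight (R := A) (A := B) (B := A ⧸ I)).toRingHom)) v)
  intro b
  obtain ⟨v, hv⟩ := hs (b ⊗ₜ 1)
  obtain ⟨a, rfl⟩ := Ideal.Quotient.mk_surjective v
  refine ⟨a, ?_⟩
  have h0 : (b - algebraMap A B a) ⊗ₜ[A] (1 : A ⧸ I) = 0 := by
    rw [sub_tmul, ← hv, Algebra.TensorProduct.includeRight_apply, Algebra.algebraMap_eq_smul_one,
      smul_tmul, ← Algebra.algebraMap_eq_smul_one, Ideal.Quotient.algebraMap_eq, sub_self]
  have h1 := congrArg (TensorProduct.comm A B (A ⧸ I)) h0
  rw [map_zero, TensorProduct.comm_tmul, one_tmul_eq_zero_iff', Ideal.smul_top_eq_map] at h1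
  exact h1

theorem eq_isoSpec_hom_SpecMap {Z : Scheme.{u}} [IsAffine Z] {A : CommRingCat.{u}} (g : Z ⟶ Spec A) :
    g = Z.isoSpec.hom ≫ Spec.map ((Scheme.ΓSpecIso A).inv ≫ g.appTop) := by
  rw [Scheme.isoSpec_hom, Spec.map_comp, ← Scheme.toSpecΓ_naturality_assoc,
    ← SpecMap_ΓSpecIso_hom, ← Spec.map_comp]
  simp

theorem isClosedImmersion_of_pullback {X S S' : Scheme.{u}} (f : X ⟶ S) (i : S' ⟶ S)
    [IsClosedImmersion i] [Surjective i] [LocallyOfFiniteType f]
    [IsClosedImmersion (pullback.snd f i)] : IsClosedImmersion f := by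
  have hfst : Surjective (pullback.fst f i) := inferInstance
  have hemb : Topology.IsClosedEmbedding f := by
    have h1 : Topology.IsClosedEmbedding (pullback.snd f i ≫ i) :=
      (pullback.snd f i ≫ i).isClosedEmbedding
    rw [← pullback.condition] at h1
    let e : (pullback f i : Scheme.{u}) ≃ₜ X := IsHomeomorph.homeomorph _
      (isHomeomorph_iff_isEmbedding_surjective.mpr
        ⟨(pullback.fst f i).isClosedEmbedding.isEmbedding, hfst.surj⟩)
    have h2 := h1.comp e.symm.isClosedEmbedding
    convert! h2 using 1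
    funext x
    show f x = f (pullback.fst f i (e.symm x))
    congr 1
    exact (e.apply_symm_apply x).symm
  have : IsAffineHom f := isAffineHom_of_isInducing f hemb.isInducing hemb.isClosed_range
  rw [IsZariskiLocalAtTarget.iff_of_openCover (P := @IsClosedImmersion) S.affineCover]
  intro j
  let g := pullback.snd f (S.affineCover.f j)
  let k := pullback.snd i (S.affineCover.f j)
  show IsClosedImmersion g
  have : Surjective k := inferInstance
  have : IsClosedImmersion (pullback.snd g k) := by
    have big : IsPullback (pullback.fst g k ≫ pullback.fst f (S.affineCover.f j)) (pullback.snd g k) f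
        (k ≫ S.affineCover.f j) :=
      (IsPullback.of_hasPullback g k).paste_horiz (IsPullback.of_hasPullback f (S.affineCover.f j))
    rw [show k ≫ S.affineCover.f j = pullback.fst i (S.affineCover.f j) ≫ i from
      pullback.condition.symm] at big
    have := IsPullback.of_right' big (IsPullback.of_hasPullback f i)
    exact MorphismProperty.of_isPullback this inferInstance
  -- affine situation
  have : IsAffine (pullback f (S.affineCover.f j)) := isAffine_of_isAffineHom g
  obtain ⟨I, e, he⟩ := IsClosedImmersion.Spec_iff.mp (inferInstance : IsClosedImmersion k)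
  let φ := (Scheme.ΓSpecIso _).inv ≫ g.appTop
  have hg : g = (pullback f (S.affineCover.f j)).isoSpec.hom ≫ Spec.map φ :=
    eq_isoSpec_hom_SpecMap g
  have hφ : φ.hom.FiniteType := by
    have : LocallyOfFiniteType (Spec.map φ) := by
      rw [show Spec.map φ = (pullback f (S.affineCover.f j)).isoSpec.inv ≫ g by
        rw [hg]; exact (Iso.inv_hom_id_assoc _ _).symm]
      have : LocallyOfFiniteType g :=
        inferInstanceAs (LocallyOfFiniteType (pullback.snd f (S.affineCover.f j)))
      exact @locallyOfFiniteType_comp _ _ _ _ _ (inferInstance : LocallyOfFiniteType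
        (pullback f (S.affineCover.f j)).isoSpec.inv) this
    exact (HasRingHomProperty.Spec_iff (P := @LocallyOfFiniteType)).mp this
  algebraize [φ.hom]
  have hI : I ≤ nilradical _ := by
    intro a ha
    rw [mem_nilradical, ← PrimeSpectrum.basicOpen_eq_bot_iff, eq_bot_iff]
    intro x hx
    obtain ⟨y, hy⟩ := k.surjective x
    rw [he] at hy
    apply hx
    rw [← hy]
    show a ∈ (PrimeSpectrum.comap (Ideal.Quotient.mk I) (e.hom y)).asIdeal
    change Ideal.Quotient.mk I a ∈ (e.hom y).asIdeal
    rw [Ideal.Quotient.eq_zero_iff_mem.mpr ha]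
    exact zero_mem _
  have : IsClosedImmersion (pullback.snd (Spec.map φ)
      (Spec.map (CommRingCat.ofHom (Ideal.Quotient.mk I)))) := by
    have h1 : IsPullback (pullback.fst g k ≫ (pullback f (S.affineCover.f j)).isoSpec.hom)
        (pullback.snd g k ≫ e.hom) (Spec.map φ) (Spec.map (CommRingCat.ofHom (Ideal.Quotient.mk I))) := by
      refine (IsPullback.of_hasPullback g k).of_iso (Iso.refl _)
        (pullback f (S.affineCover.f j)).isoSpec e (Iso.refl _) ?_ ?_ ?_ ?_
      · simp
      · simp
      · rw [hg]; exact Category.comp_id _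
      · rw [he]; exact Category.comp_id _
    rw [← h1.isoPullback_inv_snd]
    infer_instance
  rw [hg]
  exact MorphismProperty.RespectsIso.precomp (P := @IsClosedImmersion) _ _
    (@isClosedImmersion_Spec _ _ _ _ _ _ I hI this)

end Groth.Agent.FlatCrit65
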