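import Groth.Agent.FlatCrit65.Basic
import Mathlib.RingTheory.Flat.Localization
import Mathlib.RingTheory.Localization.Finiteness
import Mathlib.RingTheory.Localization.AtPrime.Basic
import Mathlib.RingTheory.Localization.Submodule

/-!
The criterion for flatness at a prime.
-/

universe u

open TensorProduct

namespace Groth.Agent.FlatCrit65

variable {R S M : Type u} [CommRing R] [CommRing S] [Algebra R S] [AddCommGroup M] [Module R M]
  [Module S M] [IsScalarTower R S M]

lemma LexQuot.localized {I : Ideal R} (h : LexQuot I M) (T : Submonoid S) :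
    LexQuot I (LocalizedModule T M) := by
  intro n K
  have hmap := IsLocalizedModule.map_injective T
    (AlgebraTensorModule.rTensor R K (LocalizedModule.mkLinearMap T M))
    (AlgebraTensorModule.rTensor R (R ⧸ I ^ n) (LocalizedModule.mkLinearMap T M))
    (AlgebraTensorModule.lTensor S M K.subtype) (h n K)
  rw [IsLocalizedModule.map_lTensor] at hmap
  exact hmap

theorem flat_localized [IsNoetherianRing R] [IsNoetherianRing S] [Module.Finite S M] {I : Ideal R}
    (h : LexQuot I M) (q : Ideal S) [q.IsPrime] (hq : I.map (algebraMap R S) ≤ q) :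
    Module.Flat R (LocalizedModule q.primeCompl M) := by
  have : IsNoetherianRing (Localization.AtPrime q) :=
    IsLocalization.isNoetherianRing q.primeCompl _ inferInstance
  refine flat_of_lexQuot (S := Localization.AtPrime q) ?_ (h.localized q.primeCompl)
  rw [IsLocalRing.jacobson_eq_maximalIdeal ⊥ bot_ne_top, Ideal.map_le_iff_le_comap]
  intro x hx
  have hxq : algebraMap R S x ∈ q := hq (Ideal.mem_map_of_mem _ hx)
  rw [Ideal.mem_comap, IsScalarTower.algebraMap_apply R S (Localization.AtPrime q)]
  exact (IsLocalization.AtPrime.to_map_mem_maximal_iff (Localization.AtPrime q) q _).mpr hxq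

end Groth.Agent.FlatCrit65
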