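import Groth.Agent.FlatCrit65.Basic
import Mathlib.RingTheory.Flat.Localization
import Mathlib.LinearAlgebra.TensorProduct.Pi
import Mathlib.RingTheory.Spectrum.Prime.Topology

/-!
Flatness modulo a smaller ideal for a module flat on a quasi-compact open set.
-/

universe u

open TensorProduct

namespace Groth.Agent.FlatCrit65

variable {A M : Type u} [CommRing A] [AddCommGroup M] [Module A M]

lemma flat_baseChange_of_injective (J : Ideal A)
    (h : ∀ K : Submodule A (A ⧸ J), Function.Injective (K.subtype.lTensor M)) :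
    Module.Flat (A ⧸ J) ((A ⧸ J) ⊗[A] M) := by
  rw [Module.Flat.iff_rTensor_injective']
  intro K
  have h0 : Function.Injective ((K.restrictScalars A).subtype.rTensor M) :=
    (LinearMap.lTensor_inj_iff_rTensor_inj _ _).mp (h _)
  have key : ∀ x : K ⊗[A ⧸ J] ((A ⧸ J) ⊗[A] M),
      (K.restrictScalars A).subtype.rTensor M
        (AlgebraTensorModule.cancelBaseChange A (A ⧸ J) (A ⧸ J) K M x) =
      AlgebraTensorModule.cancelBaseChange A (A ⧸ J) (A ⧸ J) (A ⧸ J) M
        (K.subtype.rTensor ((A ⧸ J) ⊗[A] M) x) := by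
    intro x
    induction x with
    | zero => simp only [map_zero]; exact map_zero _
    | add a b ha hb => rw [map_add]; exact (map_add _ _ _).trans (by rw [ha, hb, map_add, map_add])
    | tmul p y =>
      induction y with
      | zero => simp only [tmul_zero, map_zero]; exact map_zero _
      | add a b ha hb =>
        rw [tmul_add, map_add]; exact (map_add _ _ _).trans (by rw [ha, hb, map_add, map_add])
      | tmul a m => rfl
  rw [injective_iff_map_eq_zero]
  intro x hx
  apply (AlgebraTensorModule.cancelBaseChange A (A ⧸ J) (A ⧸ J) K M).injective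
  rw [map_zero]
  apply h0
  rw [key, hx, map_zero]
  exact (map_zero _).symm

theorem flat_mod_smaller (I : Ideal A) (U : Set (PrimeSpectrum A)) (hUc : IsCompact U)
    [Module.Flat (A ⧸ I) (M ⧸ (I • ⊤ : Submodule A M))]
    (hflat : ∀ p ∈ U, Module.Flat A (LocalizedModule p.asIdeal.primeCompl M))
    (I₂ : Ideal A)
    (hI₂ : ∀ x : A, x ∈ I₂ ↔ x ∈ I ∧ ∀ p ∈ U, ∃ s : A, s ∉ p.asIdeal ∧ s * x ∈ I ^ 2) :
    Module.Flat (A ⧸ I₂) (M ⧸ (I₂ • ⊤ : Submodule A M)) := by
  have h2 : Module.Flat (A ⧸ I) ((A ⧸ I) ⊗[A] M) :=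
    Module.Flat.of_linearEquiv
      ((TensorProduct.quotTensorEquivQuotSMul M I).extendScalarsOfSurjective
        Ideal.Quotient.mk_surjective)
  have hle : I₂ ≤ I := fun x hx => ((hI₂ x).mp hx).1
  have hsq : I ^ 2 ≤ I₂ := fun x hx => (hI₂ x).mpr
    ⟨Ideal.pow_le_self two_ne_zero hx,
      fun p _ => ⟨1, fun h => p.2.ne_top ((Ideal.eq_top_iff_one _).mpr h), by rwa [one_mul]⟩⟩
  let J : Submodule A (A ⧸ I₂) := Submodule.map I₂.mkQ I
  have hJtors : Module.IsTorsionBySet A J I := by
    rintro ⟨_, y, hy, rfl⟩ c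
    refine Subtype.ext ((Submodule.Quotient.mk_eq_zero _).mpr ?_)
    exact hsq (pow_two I ▸ Ideal.mul_mem_mul c.2 hy)
  -- injectivity on `J`
  have hJ : Function.Injective (J.subtype.lTensor M) := by
    rw [injective_iff_map_eq_zero]
    intro x hx
    have hloc : ∀ p ∈ U, ∃ s : A, s ∉ p.asIdeal ∧ s • x = 0 := by
      intro p hp
      have := hflat p hp
      let ℓ := LocalizedModule.mkLinearMap p.asIdeal.primeCompl M
      have h0 : AlgebraTensorModule.rTensor A J ℓ x = 0 := by
        apply Module.Flat.lTensor_preserves_injective_linearMap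
          (M := LocalizedModule p.asIdeal.primeCompl M) J.subtype J.injective_subtype
        show J.subtype.lTensor _ (ℓ.rTensor J x) = J.subtype.lTensor _ 0
        rw [map_zero, ← LinearMap.comp_apply, LinearMap.lTensor_comp_rTensor,
          ← LinearMap.rTensor_comp_lTensor, LinearMap.comp_apply, hx, map_zero]
      obtain ⟨⟨s, hs⟩, hsx⟩ :=
        (IsLocalizedModule.eq_zero_iff p.asIdeal.primeCompl (AlgebraTensorModule.rTensor A J ℓ)).mp h0
      exact ⟨s, hs, hsx⟩
    obtain ⟨T, hT⟩ := hUc.elim_finite_subcover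
      (fun s : {s : A // s • x = 0} => (PrimeSpectrum.basicOpen s.1 : Set (PrimeSpectrum A)))
      (fun s => PrimeSpectrum.isOpen_basicOpen) (fun p hp => by
        obtain ⟨s, hs, hsx⟩ := hloc p hp
        exact Set.mem_iUnion.mpr ⟨⟨s, hsx⟩, hs⟩)
    let ψ : J →ₗ[A] (T → J) := LinearMap.pi fun s => LinearMap.lsmul A J s.1.1
    have hψ : Function.Injective ψ := by
      rw [injective_iff_map_eq_zero]
      rintro ⟨_, y, hy, rfl⟩ hy0
      refine Subtype.ext ((Submodule.Quotient.mk_eq_zero _).mpr ((hI₂ y).mpr ⟨hy, fun p hp => ?_⟩))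
      obtain ⟨s, hs⟩ := Set.mem_iUnion.mp (hT hp)
      obtain ⟨hsT, hsp⟩ := Set.mem_iUnion.mp hs
      have h1 : s.1 * y ∈ I₂ :=
        (Submodule.Quotient.mk_eq_zero _).mp (congrArg Subtype.val (congrFun hy0 ⟨s, hsT⟩))
      obtain ⟨t, ht, hty⟩ := ((hI₂ _).mp h1).2 p hp
      exact ⟨t * s.1, fun hmem => (p.2.mem_or_mem hmem).elim ht hsp, by rwa [mul_assoc]⟩
    have htors : Module.IsTorsionBySet A (T → J) I := fun v c => funext fun s => @hJtors (v s) c
    apply lTensor_injective_of_killed h2 hJtors htors ψ hψ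
    rw [map_zero]
    classical
    have key : ∀ z, TensorProduct.piRight A A M (fun _ : T => J) (ψ.lTensor M z) =
        fun s => s.1.1 • z := by
      intro z
      induction z with
      | zero => funext s; simp
      | add a b ha hb => rw [map_add, map_add, ha, hb]; funext s; simp
      | tmul m j =>
        funext s
        simp [ψ, TensorProduct.tmul_smul]
    apply (TensorProduct.piRight A A M (fun _ : T => J)).injective
    rw [key, map_zero]
    funext s
    exact s.1.2
  -- injectivity on all submodules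
  have hK : ∀ K : Submodule A (A ⧸ I₂), Function.Injective (K.subtype.lTensor M) := by
    intro K
    let π : (A ⧸ I₂) →ₗ[A] A ⧸ I := Submodule.mapQ I₂ I LinearMap.id hle
    let K' : Submodule A (A ⧸ I) := K.map π
    let g : K →ₗ[A] K' := π.restrict (fun x hx => Submodule.mem_map_of_mem hx)
    have hg : Function.Surjective g := by
      rintro ⟨_, y, hy, rfl⟩
      exact ⟨⟨y, hy⟩, rfl⟩
    have hQ : Module.IsTorsionBySet A (A ⧸ I) I := fun v c => by
      obtain ⟨v, rfl⟩ := Submodule.mkQ_surjective _ v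
      exact (Submodule.Quotient.mk_eq_zero _).mpr (Ideal.mul_mem_right v I c.2)
    have hker : ∀ z : LinearMap.ker g, ((z : K) : A ⧸ I₂) ∈ J := by
      rintro ⟨⟨z, hz⟩, hgz⟩
      obtain ⟨z, rfl⟩ := Submodule.mkQ_surjective _ z
      exact ⟨z, (Submodule.Quotient.mk_eq_zero _).mp
        (congrArg Subtype.val (LinearMap.mem_ker.mp hgz)), rfl⟩
    let j : LinearMap.ker g →ₗ[A] J :=
      (K.subtype ∘ₗ (LinearMap.ker g).subtype).codRestrict J hker
    have hj : Function.Injective j := fun a b hab =>
      Subtype.ext (Subtype.ext (congrArg Subtype.val hab :))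
    have hkertors : Module.IsTorsionBySet A (LinearMap.ker g) I := fun v c =>
      hj (by rw [map_smul, map_zero]; exact @hJtors (j v) c)
    rw [injective_iff_map_eq_zero]
    intro x hx
    have h0 : g.lTensor M x = 0 := by
      apply lTensor_injective_of_killed h2 (isTorsionBySet_submodule hQ K') hQ K'.subtype
        K'.injective_subtype
      rw [map_zero, ← LinearMap.lTensor_comp_apply]
      show (π ∘ₗ K.subtype).lTensor M x = 0
      rw [LinearMap.lTensor_comp_apply, hx, map_zero]
    have hex : Function.Exact (LinearMap.ker g).subtype g := g.exact_subtype_ker_map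
    obtain ⟨y, rfl⟩ := (@lTensor_exact A (LinearMap.ker g) K K' _ _ _ _ _ _ _
      (LinearMap.ker g).subtype g M _ _ hex hg x).mp h0
    have hy : y = 0 := by
      refine @lTensor_injective_of_killed A _ M _ _ I h2 (LinearMap.ker g) J _ _ _ _ hkertors hJtors j hj y 0 (hJ ?_)
      rw [map_zero, map_zero, ← LinearMap.lTensor_comp_apply]
      rw [← LinearMap.lTensor_comp_apply] at hx
      exact hx
    rw [hy, map_zero]
  have := flat_baseChange_of_injective (M := M) I₂ hK
  exact Module.Flat.of_linearEquiv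
    ((TensorProduct.quotTensorEquivQuotSMul M I₂).extendScalarsOfSurjective
      Ideal.Quotient.mk_surjective).symm

end Groth.Agent.FlatCrit65
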