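import Groth.Agent.FlatCrit65.GenFree
import Mathlib.Data.Finsupp.MonomialOrder.DegLex
import Mathlib.Data.Finsupp.PWO
import Mathlib.Order.WellFoundedSet
import Mathlib.Order.Minimal

/-!
Generic freeness over an arbitrary ring: a monomial basis after inverting an element
with maximal set of leading monomials. No domain or Noetherian hypothesis is needed.
-/

universe u

open TensorProduct MvPolynomial

namespace Groth.Agent.FlatCrit65

open Groth.Agent.GenFree62

namespace Monom

variable {R : Type u} [CommRing R] {n k : ℕ}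

/-- The ordering key of a monomial of a finite free polynomial module. -/
noncomputable def key (x : (Fin n →₀ ℕ) × Fin k) : Lex ((MonomialOrder.degLex (σ := Fin n)).syn × Fin k) :=
  toLex ((MonomialOrder.degLex (σ := Fin n)).toSyn x.1, x.2)

theorem key_add_lt {x y : (Fin n →₀ ℕ) × Fin k} (c : Fin n →₀ ℕ) (h : key y < key x) :
    key (y.1 + c, y.2) < key (x.1 + c, x.2) := by
  simp only [key, Prod.Lex.toLex_lt_toLex, map_add] at h ⊢
  rcases h with h | ⟨h, h'⟩
  · exact Or.inl (by simpa [add_comm] using add_lt_add_left h ((MonomialOrder.degLex (σ := Fin n)).toSyn c))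
  · exact Or.inr ⟨by rw [h], h'⟩

theorem key_injective : Function.Injective (key (n := n) (k := k)) := fun x y h => by
  simp only [key, EmbeddingLike.apply_eq_iff_eq, Prod.mk.injEq] at h
  exact Prod.ext h.1 h.2

variable (R) in
/-- A monomial of a finite free polynomial module. -/
noncomputable def e (x : (Fin n →₀ ℕ) × Fin k) : Fin k → MvPolynomial (Fin n) R :=
  Pi.single x.2 (monomial x.1 1)

variable (R) in
/-- The span of the monomials before `x`. -/
noncomputable def below (x : (Fin n →₀ ℕ) × Fin k) : Submodule R (Fin k → MvPolynomial (Fin n) R) :=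
  Submodule.span R (e R '' {y | key y < key x})

/-- The leading monomials of `K` after inverting `f`. -/
def lead (K : Submodule (MvPolynomial (Fin n) R) (Fin k → MvPolynomial (Fin n) R)) (f : R) :
    Set ((Fin n →₀ ℕ) × Fin k) :=
  {x | ∃ N : ℕ, f ^ N • e R x ∈ K.restrictScalars R ⊔ below R x}

theorem monomial_smul_e (c : Fin n →₀ ℕ) (x : (Fin n →₀ ℕ) × Fin k) :
    (monomial c (1 : R)) • e R x = e R (x.1 + c, x.2) := by
  simp only [e]
  rw [← Pi.single_smul, smul_eq_mul, monomial_mul, one_mul, add_comm]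

theorem monomial_smul_below (c : Fin n →₀ ℕ) (x : (Fin n →₀ ℕ) × Fin k)
    {y : Fin k → MvPolynomial (Fin n) R} (hy : y ∈ below R x) :
    (monomial c (1 : R)) • y ∈ below R (x.1 + c, x.2) := by
  induction hy using Submodule.span_induction with
  | mem z hz =>
    obtain ⟨w, hw, rfl⟩ := hz
    rw [monomial_smul_e]
    exact Submodule.subset_span ⟨_, key_add_lt c hw, rfl⟩
  | zero => rw [smul_zero]; exact zero_mem _
  | add a b _ _ ha hb => rw [smul_add]; exact add_mem ha hb
  | smul r a _ ha => rw [smul_comm]; exact Submodule.smul_mem _ r ha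

variable {K : Submodule (MvPolynomial (Fin n) R) (Fin k → MvPolynomial (Fin n) R)}

theorem lead_upper {f : R} {x : (Fin n →₀ ℕ) × Fin k} (hx : x ∈ lead K f) (c : Fin n →₀ ℕ) :
    (x.1 + c, x.2) ∈ lead K f := by
  obtain ⟨N, hN⟩ := hx
  obtain ⟨w, hw, b, hb, hwb⟩ := Submodule.mem_sup.mp hN
  refine ⟨N, Submodule.mem_sup.mpr ⟨monomial c (1 : R) • w, K.smul_mem _ hw,
    monomial c (1 : R) • b, monomial_smul_below c x hb, ?_⟩⟩
  rw [← smul_add, hwb, smul_comm, monomial_smul_e]

theorem lead_mono (f g : R) : lead K f ⊆ lead K (f * g) := by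
  rintro x ⟨N, hN⟩
  refine ⟨N, ?_⟩
  rw [mul_pow, mul_comm, mul_smul]
  exact Submodule.smul_mem _ _ hN

theorem exists_finite_gen (U : Set ((Fin n →₀ ℕ) × Fin k)) :
    ∃ G : Set ((Fin n →₀ ℕ) × Fin k), G.Finite ∧ G ⊆ U ∧
      ∀ x ∈ U, ∃ g ∈ G, ∃ c, x = (g.1 + c, g.2) := by
  refine ⟨{x | Minimal (fun a => (a, x.2) ∈ U) x.1}, ?_, fun x hx => hx.1, fun x hx => ?_⟩
  · have : {x : (Fin n →₀ ℕ) × Fin k | Minimal (fun a => (a, x.2) ∈ U) x.1} ⊆
        ⋃ i : Fin k, (fun a => (a, i)) '' {a | Minimal (fun a => (a, i) ∈ U) a} :=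
      fun x hx => Set.mem_iUnion.mpr ⟨x.2, x.1, hx, rfl⟩
    refine (Set.finite_iUnion fun i => Set.Finite.image _ ?_).subset this
    exact WellQuasiOrderedLE.finite_of_isAntichain
      (fun a ha b hb hab hle => hab (le_antisymm hle (hb.2 ha.1 hle)))
  · obtain ⟨a, hale, ha⟩ := exists_minimal_le_of_wellFoundedLT (fun a => (a, x.2) ∈ U) x.1 hx
    refine ⟨(a, x.2), ha, x.1 - a, ?_⟩
    rw [add_tsub_cancel_of_le hale]

theorem exists_maximal_lead {f₀ : R} (hf₀ : f₀ ≠ 0) :
    ∃ g : R, f₀ * g ≠ 0 ∧ ∀ h : R, f₀ * g * h ≠ 0 → lead K (f₀ * g * h) ⊆ lead K (f₀ * g) := by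
  classical
  by_contra hcon
  push Not at hcon
  choose! H hH hH' using hcon
  let seq : ℕ → R := fun i => Nat.rec 1 (fun _ g => g * H g) i
  have hne : ∀ i, f₀ * seq i ≠ 0 := by
    intro i
    induction i with
    | zero => simpa [seq] using hf₀
    | succ i ih => simpa [seq, mul_assoc] using hH _ ih
  have hmono : Monotone fun i => lead K (f₀ * seq i) := monotone_nat_of_le_succ fun i => by
    show lead K (f₀ * seq i) ⊆ lead K (f₀ * (seq i * H (seq i)))
    rw [← mul_assoc]; exact lead_mono _ _
  obtain ⟨G, hGfin, hGU, hG⟩ := exists_finite_gen (⋃ i, lead K (f₀ * seq i))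
  obtain ⟨J, hJ⟩ : ∃ J, G ⊆ lead K (f₀ * seq J) :=
    (hmono.directed_le).exists_mem_subset_of_finset_subset_biUnion (s := hGfin.toFinset)
      (by simpa using hGU) |>.imp fun J hJ => by simpa using hJ
  refine hH' _ (hne J) fun x hx => ?_
  have hx' : x ∈ ⋃ i, lead K (f₀ * seq i) := Set.mem_iUnion.mpr ⟨J + 1, by
    show x ∈ lead K (f₀ * (seq J * H (seq J)))
    rwa [← mul_assoc]⟩
  obtain ⟨g, hg, c, rfl⟩ := hG x hx'
  exact lead_upper (hJ hg) c

end Monom

open Monom in
/-- Generic freeness over any ring: some nonzero multiple of a given nonzero element makes a module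
finite over a polynomial ring free, with finitely many relations. -/
theorem exists_mul_freeAway_and_relations {R : Type u} [CommRing R] {n k : ℕ}
    {M : Type u} [AddCommGroup M] [Module R M]
    [Module (MvPolynomial (Fin n) R) M] [IsScalarTower R (MvPolynomial (Fin n) R) M]
    (σ : (Fin k → MvPolynomial (Fin n) R) →ₗ[MvPolynomial (Fin n) R] M) (hσ : Function.Surjective σ)
    {f₀ : R} (hf₀ : f₀ ≠ 0) :
    ∃ (g : R) (T : Finset (Fin k → MvPolynomial (Fin n) R)), f₀ * g ≠ 0 ∧ FreeAway (f₀ * g) M ∧
      (∀ v ∈ T, σ v = 0) ∧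
      ∀ x, σ x = 0 → ∃ N : ℕ, (f₀ * g) ^ N • x ∈ Submodule.span (MvPolynomial (Fin n) R) (T : Set _) := by
  classical
  let K := LinearMap.ker σ
  obtain ⟨g, hg, hmax⟩ := exists_maximal_lead (K := K) hf₀
  set f := f₀ * g with hf
  obtain ⟨G, hGfin, hGL, hG⟩ := exists_finite_gen (lead K f)
  have hrel : ∀ x ∈ G, ∃ w : Fin k → MvPolynomial (Fin n) R, σ w = 0 ∧
      ∃ N : ℕ, f ^ N • e R x - w ∈ below R x := by
    intro x hx
    obtain ⟨N, hN⟩ := hGL hx
    obtain ⟨w, hw, b, hb, hwb⟩ := Submodule.mem_sup.mp hN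
    exact ⟨w, hw, N, by rw [← hwb, add_sub_cancel_left]; exact hb⟩
  choose! w hw hwN using hrel
  let K₀ := Submodule.span (MvPolynomial (Fin n) R) (w '' G)
  have hK₀ : K₀ ≤ K := Submodule.span_le.mpr (by rintro _ ⟨x, hx, rfl⟩; exact hw x hx)
  let B := Submodule.span R (e R '' (lead K f)ᶜ)
  -- everything reduces to standard monomials
  let sat : Submodule R (Fin k → MvPolynomial (Fin n) R) :=
    { carrier := {y | ∃ N : ℕ, f ^ N • y ∈ K₀.restrictScalars R ⊔ B}
      zero_mem' := ⟨0, by rw [smul_zero]; exact zero_mem _⟩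
      add_mem' := by
        rintro a b ⟨N, hN⟩ ⟨N', hN'⟩
        refine ⟨N + N', ?_⟩
        rw [smul_add, pow_add]
        refine add_mem ?_ ?_
        · rw [mul_comm, mul_smul]; exact Submodule.smul_mem _ _ hN
        · rw [mul_smul]; exact Submodule.smul_mem _ _ hN'
      smul_mem' := by
        rintro r a ⟨N, hN⟩
        exact ⟨N, by rw [smul_comm]; exact Submodule.smul_mem _ _ hN⟩ }
  have he : ∀ x, e R x ∈ sat := by
    intro x
    induction hkey : key x using WellFoundedLT.induction generalizing x with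
    | _ a ih =>
      subst hkey
      by_cases hx : x ∈ lead K f
      · obtain ⟨z, hz, c, rfl⟩ := hG x hx
        obtain ⟨N, hN⟩ := hwN z hz
        have hb : (monomial c (1 : R)) • (f ^ N • e R z - w z) ∈ below R (z.1 + c, z.2) :=
          monomial_smul_below c z hN
        have hb' : below R (z.1 + c, z.2) ≤ sat :=
          Submodule.span_le.mpr (by rintro _ ⟨y, hy, rfl⟩; exact ih _ hy y rfl)
        obtain ⟨N', hN'⟩ := hb' hb
        refine ⟨N' + N, ?_⟩
        have hmem : f ^ N' • ((monomial c (1 : R)) • w z) ∈ K₀.restrictScalars R ⊔ B :=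
          Submodule.mem_sup_left (Submodule.smul_of_tower_mem K₀ _
            (K₀.smul_mem _ (Submodule.subset_span ⟨z, hz, rfl⟩)))
        have := add_mem hN' hmem
        rwa [← smul_add, ← smul_add, sub_add_cancel, smul_comm (monomial c (1 : R)), monomial_smul_e,
          smul_smul, ← pow_add] at this
      · exact ⟨0, by rw [pow_zero, one_smul]; exact Submodule.mem_sup_right (Submodule.subset_span ⟨x, hx, rfl⟩)⟩
  have hall : ∀ y, y ∈ sat := by
    intro y
    rw [← Finset.univ_sum_single y]
    refine sum_mem fun i _ => ?_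
    induction y i using MvPolynomial.induction_on' with
    | monomial a r =>
      have : Pi.single i (monomial a r) = r • e R (a, i) := by
        simp only [e]
        rw [← Pi.single_smul, smul_monomial, smul_eq_mul, mul_one]
      rw [this]
      exact Submodule.smul_mem _ r (he _)
    | add p q hp hq => rw [Pi.single_add]; exact add_mem hp hq
  -- standard monomials are independent up to `f`-torsion
  have hindep : ∀ c : ((Fin n →₀ ℕ) × Fin k) →₀ R, (∀ x ∈ c.support, x ∉ lead K f) →
      ∀ N : ℕ, f ^ N • (c.sum fun x r => r • e R x) ∈ K.restrictScalars R → ∀ x, f * c x = 0 := by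
    intro c hc N hN x₀
    by_contra hne
    obtain ⟨x, hx, hmaxx⟩ : ∃ x ∈ c.support.filter (fun x => f * c x ≠ 0),
        ∀ y ∈ c.support.filter (fun x => f * c x ≠ 0), key y ≤ key x :=
      Finset.exists_max_image _ key ⟨x₀, Finset.mem_filter.mpr
        ⟨Finsupp.mem_support_iff.mpr fun h => hne (by rw [h, mul_zero]), hne⟩⟩
    obtain ⟨hxs, hxne⟩ := Finset.mem_filter.mp hx
    apply hc x hxs
    apply hmax (c x) hxne
    refine ⟨N + 1, ?_⟩
    have hsum : f ^ (N + 1) • (c.sum fun y r => r • e R y) =
        (f ^ (N + 1) * c x) • e R x + ∑ y ∈ c.support.erase x, (f ^ (N + 1) * c y) • e R y := by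
      rw [Finsupp.sum, ← Finset.add_sum_erase _ _ hxs, smul_add, smul_smul, Finset.smul_sum]
      simp only [smul_smul]
    have hrest : ∑ y ∈ c.support.erase x, (f ^ (N + 1) * c y) • e R y ∈ below R x := by
      refine sum_mem fun y hy => ?_
      obtain ⟨hyx, hys⟩ := Finset.mem_erase.mp hy
      by_cases hfy : f * c y = 0
      · rw [pow_succ, mul_assoc, hfy, mul_zero, zero_smul]; exact zero_mem _
      · exact Submodule.smul_mem _ _ (Submodule.subset_span ⟨y, lt_of_le_of_ne
          (hmaxx y (Finset.mem_filter.mpr ⟨hys, hfy⟩)) (fun h => hyx (key_injective h)), rfl⟩)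
    have h1 : (f ^ (N + 1) * c x) • e R x ∈ K.restrictScalars R ⊔ below R x := by
      rw [eq_sub_of_add_eq hsum.symm]
      refine sub_mem (Submodule.mem_sup_left ?_) (Submodule.mem_sup_right hrest)
      rw [pow_succ', mul_smul]
      exact Submodule.smul_mem _ f hN
    rw [show (f * c x) ^ (N + 1) = c x ^ N * (f ^ (N + 1) * c x) by ring, mul_smul]
    exact Submodule.smul_mem _ _ h1
  have hBmem : ∀ y ∈ B, ∃ c : ((Fin n →₀ ℕ) × Fin k) →₀ R, (∀ x ∈ c.support, x ∉ lead K f) ∧
      (c.sum fun x r => r • e R x) = y := by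
    intro y hy
    obtain ⟨c, hc, hcy⟩ := (Finsupp.mem_span_image_iff_linearCombination R).mp hy
    exact ⟨c, fun x hx => hc hx, by rw [← hcy, Finsupp.linearCombination_apply]⟩
  refine ⟨g, (hGfin.image w).toFinset, hg, ?_, ?_, ?_⟩
  · let F := Finsupp.linearCombination R
      (fun x : ((lead K f)ᶜ : Set ((Fin n →₀ ℕ) × Fin k)) => σ (e R x.1))
    have hker : ∀ c ∈ LinearMap.ker F, f • c = 0 := by
      intro c hc
      ext x
      have := hindep (c.mapDomain Subtype.val) (fun y hy => by
          obtain ⟨z, -, rfl⟩ := Finset.mem_image.mp (Finsupp.mapDomain_support hy)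
          exact z.2) 0 (by
          rw [pow_zero, one_smul, Finsupp.sum_mapDomain_index (by simp) (by simp [add_smul])]
          show σ _ = 0
          rw [map_finsuppSum]
          simp only [LinearMap.map_smul_of_tower]
          rwa [LinearMap.mem_ker, Finsupp.linearCombination_apply] at hc) x.1
      rw [Finsupp.mapDomain_apply Subtype.val_injective] at this
      simpa using this
    let Rf := Localization.Away f
    have : Module.Flat R Rf := IsLocalization.flat Rf (Submonoid.powers f)
    have hu : IsUnit (algebraMap R Rf f) := IsLocalization.Away.algebraMap_isUnit f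
    have hbij : Function.Bijective (F.baseChange Rf) := by
      constructor
      · rw [← LinearMap.ker_eq_bot, Submodule.eq_bot_iff]
        intro z hz
        obtain ⟨v, rfl⟩ := ((@Module.Flat.lTensor_exact R Rf _ _ _ ‹Module.Flat R Rf› (LinearMap.ker F) _ _ _ _ _ _ _ _
          (LinearMap.ker F).subtype F F.exact_subtype_ker_map) z).mp hz
        suffices v = 0 by rw [this, map_zero]
        clear hz
        induction v using TensorProduct.induction_on with
        | zero => rfl
        | tmul a q =>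
          obtain ⟨a', rfl⟩ : ∃ a', a = f • a' := by
            obtain ⟨u, hu⟩ := hu
            exact ⟨↑u⁻¹ * a, by rw [Algebra.smul_def, ← hu, ← mul_assoc, Units.mul_inv, one_mul]⟩
          rw [smul_tmul, show f • q = 0 from Subtype.ext (hker _ q.2), tmul_zero]
        | add a b ha hb => rw [ha, hb, add_zero]
      · rw [← LinearMap.range_eq_top, eq_top_iff]
        intro z _
        induction z using TensorProduct.induction_on with
        | zero => exact zero_mem _
        | add a b ha hb => exact add_mem (ha trivial) (hb trivial)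
        | tmul a q =>
          obtain ⟨y, rfl⟩ := hσ q
          obtain ⟨N, hN⟩ := hall y
          obtain ⟨y₀, hy₀, y₁, hy₁, hy⟩ := Submodule.mem_sup.mp hN
          have hy₁' : σ y₁ ∈ LinearMap.range F := by
            clear hy
            induction hy₁ using Submodule.span_induction with
            | mem v hv =>
              obtain ⟨x, hx, rfl⟩ := hv
              exact ⟨Finsupp.single ⟨x, hx⟩ 1, by simp [F]⟩
            | zero => rw [map_zero]; exact zero_mem _
            | add a b _ _ ha hb => rw [map_add]; exact add_mem ha hb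
            | smul r a _ ha => rw [LinearMap.map_smul_of_tower]; exact Submodule.smul_mem _ r ha
          obtain ⟨d, hd⟩ := hy₁'
          obtain ⟨a', rfl⟩ : ∃ a', a = f ^ N • a' := by
            obtain ⟨u, hu⟩ := hu.pow N
            exact ⟨↑u⁻¹ * a, by rw [Algebra.smul_def, map_pow, ← hu, ← mul_assoc, Units.mul_inv, one_mul]⟩
          refine ⟨a' ⊗ₜ d, ?_⟩
          rw [LinearMap.baseChange_tmul, hd, smul_tmul, ← LinearMap.map_smul_of_tower, ← hy, map_add,
            show σ y₀ = 0 from hK₀ hy₀, zero_add]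
    exact freeAway_of_free (Module.Free.of_equiv (LinearEquiv.ofBijective _ hbij))
  · intro v hv
    obtain ⟨x, hx, rfl⟩ := (hGfin.image w).mem_toFinset.mp hv
    exact hw x hx
  · intro x hx
    rw [(hGfin.image w).coe_toFinset]
    obtain ⟨N, hN⟩ := hall x
    obtain ⟨y₀, hy₀, y₁, hy₁, hy⟩ := Submodule.mem_sup.mp hN
    obtain ⟨c, hc, rfl⟩ := hBmem y₁ hy₁
    have hzero : ∀ z, f * c z = 0 := hindep c hc 0 (by
      rw [pow_zero, one_smul]
      have hmem : f ^ N • x ∈ K.restrictScalars R := Submodule.smul_mem _ _ hx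
      rw [← hy] at hmem
      exact (Submodule.add_mem_iff_right _ (hK₀ hy₀)).mp hmem)
    refine ⟨N + 1, ?_⟩
    rw [pow_succ', mul_smul, ← hy, smul_add]
    have : f • (c.sum fun x r => r • e R x) = 0 := by
      rw [Finsupp.sum, Finset.smul_sum]
      exact Finset.sum_eq_zero fun z _ => by rw [smul_smul, hzero z, zero_smul]
    rw [this, add_zero]
    exact Submodule.smul_of_tower_mem K₀ f hy₀

/-- Generic freeness over any ring: some nonzero multiple of `f₀` works. -/
theorem generic_freeness_mul {R S M : Type u} [CommRing R] [CommRing S] [Algebra R S]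
    [Algebra.FiniteType R S] [AddCommGroup M] [Module S M] [Module R M] [IsScalarTower R S M]
    [Module.Finite S M] {f₀ : R} (hf₀ : f₀ ≠ 0) :
    ∃ f : R, f ≠ 0 ∧ f₀ ∣ f ∧ FreeAway f M ∧ FreeAway f S ∧
      Algebra.FinitePresentation (Localization.Away f) (Localization.Away f ⊗[R] S) ∧
      Module.FinitePresentation (Localization.Away (algebraMap R S f))
        (LocalizedModule (Submonoid.powers (algebraMap R S f)) M) := by
  classical
  obtain ⟨n, π, hπ⟩ := Algebra.FiniteType.iff_quotient_mvPolynomial''.mp ‹Algebra.FiniteType R S›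
  letI : Algebra (MvPolynomial (Fin n) R) S := π.toRingHom.toAlgebra
  have : IsScalarTower R (MvPolynomial (Fin n) R) S := IsScalarTower.of_algebraMap_eq fun a => (π.commutes a).symm
  letI : Module (MvPolynomial (Fin n) R) M := Module.compHom M π.toRingHom
  have : IsScalarTower (MvPolynomial (Fin n) R) S M := IsScalarTower.of_algebraMap_smul fun _ _ => rfl
  have : IsScalarTower R (MvPolynomial (Fin n) R) M := IsScalarTower.of_algebraMap_smul fun a m => by
    show π (algebraMap R _ a) • m = a • m
    rw [π.commutes, algebraMap_smul]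
  obtain ⟨m, b, hb⟩ := Module.Finite.exists_fin (R := S) (M := M)
  let σ : (Fin m → MvPolynomial (Fin n) R) →ₗ[MvPolynomial (Fin n) R] M :=
    Fintype.linearCombination _ b
  have hσ : Function.Surjective σ := by
    intro x
    obtain ⟨c, hc⟩ := (Submodule.mem_span_range_iff_exists_fun S).mp
      (hb ▸ Submodule.mem_top : x ∈ Submodule.span S (Set.range b))
    choose p hp using fun i => hπ (c i)
    refine ⟨p, ?_⟩
    rw [Fintype.linearCombination_apply, ← hc]
    exact Finset.sum_congr rfl fun i _ => by rw [← algebraMap_smul S (p i), ← hp]; rfl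
  let σ₁ : (Fin 1 → MvPolynomial (Fin n) R) →ₗ[MvPolynomial (Fin n) R] S :=
    (Algebra.linearMap (MvPolynomial (Fin n) R) S) ∘ₗ LinearMap.proj 0
  have hσ₁ : Function.Surjective σ₁ := fun s => by
    obtain ⟨p, rfl⟩ := hπ s; exact ⟨fun _ => p, rfl⟩
  obtain ⟨g₁, T₁, hf₁, hS, hT₁, hrel₁⟩ := exists_mul_freeAway_and_relations σ₁ hσ₁ hf₀
  set f₁ := f₀ * g₁ with hf₁def
  obtain ⟨f₂, T₂, hf₂, hM, hT₂, hrel₂⟩ := exists_mul_freeAway_and_relations σ hσ hf₁
  refine ⟨f₁ * f₂, hf₂, (dvd_mul_right f₀ g₁).mul_right f₂, hM, hS.of_dvd (dvd_mul_right _ _), ?_, ?_⟩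
  · let Rf := Localization.Away (f₁ * f₂)
    let Φ := Algebra.TensorProduct.map (AlgHom.id Rf Rf) π
    have : Algebra.FinitePresentation Rf (Rf ⊗[R] MvPolynomial (Fin n) R) :=
      Algebra.FinitePresentation.equiv (MvPolynomial.algebraTensorAlgEquiv (σ := Fin n) R Rf).symm
    refine Algebra.FinitePresentation.of_surjective (f := Φ)
      (LinearMap.lTensor_surjective Rf (g := π.toLinearMap) hπ) ?_
    refine ⟨T₁.image fun v => (1 : Rf) ⊗ₜ[R] v 0, ?_⟩
    have hker : RingHom.ker Φ.toRingHom = (RingHom.ker π).map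
        (Algebra.TensorProduct.includeRight (R := R) (A := Rf) (B := MvPolynomial (Fin n) R)) :=
      Algebra.TensorProduct.lTensor_ker π hπ
    rw [hker]
    apply le_antisymm
    · rw [Finset.coe_image]
      refine Submodule.span_le.mpr ?_
      rintro _ ⟨v, hv, rfl⟩
      exact Ideal.mem_map_of_mem (Algebra.TensorProduct.includeRight (R := R) (A := Rf)
        (B := MvPolynomial (Fin n) R)) (show v 0 ∈ RingHom.ker π from hT₁ v hv)
    · rw [Ideal.map_le_iff_le_comap]
      intro p hp
      obtain ⟨N, hN⟩ := hrel₁ (fun _ => p) hp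
      have key : ∀ w ∈ Submodule.span (MvPolynomial (Fin n) R)
          (T₁ : Set (Fin 1 → MvPolynomial (Fin n) R)), (1 : Rf) ⊗ₜ[R] w 0 ∈
          Submodule.span (Rf ⊗[R] MvPolynomial (Fin n) R)
            ((T₁.image fun v => (1 : Rf) ⊗ₜ[R] v 0 : Finset _) : Set (Rf ⊗[R] MvPolynomial (Fin n) R)) := by
        intro w hw
        induction hw using Submodule.span_induction with
        | mem v hv => exact Submodule.subset_span (Finset.mem_coe.mpr (Finset.mem_image_of_mem _ hv))
        | zero => simp
        | add a b _ _ ha hb => rw [Pi.add_apply, tmul_add]; exact add_mem ha hb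
        | smul q a _ ha =>
          rw [Pi.smul_apply, smul_eq_mul, show (1 : Rf) ⊗ₜ[R] (q * a 0) = ((1 : Rf) ⊗ₜ[R] q) * ((1 : Rf) ⊗ₜ[R] a 0) by
            rw [Algebra.TensorProduct.tmul_mul_tmul, one_mul]]
          exact Submodule.smul_mem _ ((1 : Rf) ⊗ₜ[R] q) ha
      have h1 := key _ hN
      rw [Pi.smul_apply, show (1 : Rf) ⊗ₜ[R] (f₁ ^ N • p) =
        ((algebraMap R Rf (f₁ ^ N)) ⊗ₜ[R] 1) * ((1 : Rf) ⊗ₜ[R] p) by
          rw [← smul_tmul, Algebra.TensorProduct.tmul_mul_tmul, Algebra.smul_def, one_mul]] at h1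
      have hu : IsUnit (algebraMap R Rf (f₁ ^ N)) := by
        rw [map_pow]
        exact (isUnit_of_mul_isUnit_left (by
          rw [← map_mul]; exact IsLocalization.Away.algebraMap_isUnit (f₁ * f₂))).pow _
      exact (Ideal.unit_mul_mem_iff_mem _
        (hu.map (Algebra.TensorProduct.includeLeftRingHom (R := R) (A := Rf)
          (B := MvPolynomial (Fin n) R)))).mp h1
  · let g := algebraMap R S (f₁ * f₂)
    let W : Submodule S (Fin m → S) := Submodule.span S
      ((fun v i => π (v i)) '' (T₂ : Set (Fin m → MvPolynomial (Fin n) R)))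
    have hW : W.FG := Submodule.fg_span (T₂.finite_toSet.image _)
    let τ : (Fin m → S) →ₗ[S] M := Fintype.linearCombination _ b
    have hτσ : ∀ v, τ (fun i => π (v i)) = σ v := fun v => by
      simp only [τ, σ, Fintype.linearCombination_apply]
      exact Finset.sum_congr rfl fun i _ => rfl
    have hle : W ≤ LinearMap.ker τ := by
      rw [Submodule.span_le]
      rintro _ ⟨v, hv, rfl⟩
      exact (hτσ v).trans (hT₂ v hv)
    let F : ((Fin m → S) ⧸ W) →ₗ[S] M := W.liftQ τ hle
    have hF : Function.Surjective F := fun x => by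
      obtain ⟨v, rfl⟩ := hσ x
      exact ⟨Submodule.Quotient.mk fun i => π (v i), hτσ v⟩
    have hkey : ∀ y, τ y = 0 → ∃ N : ℕ, g ^ N • y ∈ W := by
      intro y hy
      choose p hp using fun i => hπ (y i)
      obtain ⟨N, hN⟩ := hrel₂ p (by rw [← hτσ]; simpa [hp] using hy)
      refine ⟨N, ?_⟩
      have hmap : ∀ w ∈ Submodule.span (MvPolynomial (Fin n) R)
          (T₂ : Set (Fin m → MvPolynomial (Fin n) R)), (fun i => π (w i)) ∈ W := by
        intro w hw
        induction hw using Submodule.span_induction with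
        | mem v hv => exact Submodule.subset_span ⟨v, hv, rfl⟩
        | zero => convert W.zero_mem; simp
        | add a b _ _ ha hb => convert add_mem ha hb; simp
        | smul q a _ ha => convert W.smul_mem (π q) ha; simp
      convert hmap _ hN using 1
      funext i
      simp [g, hp, mul_pow, Algebra.smul_def, mul_assoc]
    have : Module.FinitePresentation S ((Fin m → S) ⧸ W) :=
      Module.finitePresentation_of_free_of_surjective W.mkQ W.mkQ_surjective (by rwa [Submodule.ker_mkQ])
    let L := Localization.Away g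
    let ψ : L ⊗[S] ((Fin m → S) ⧸ W) →ₗ[L] L ⊗[S] M := F.baseChange L
    have hψ : Function.Bijective ψ := by
      refine ⟨?_, LinearMap.lTensor_surjective L hF⟩
      rw [← LinearMap.ker_eq_bot, Submodule.eq_bot_iff]
      intro z hz
      obtain ⟨w, rfl⟩ := ((@lTensor_exact S (LinearMap.ker F) _ M _ _ _ _ _ _ _
        (LinearMap.ker F).subtype F L _ _ F.exact_subtype_ker_map hF) z).mp hz
      suffices w = 0 by rw [this, map_zero]
      clear hz
      induction w using TensorProduct.induction_on with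
      | zero => rfl
      | tmul a q =>
        obtain ⟨q, hq⟩ := q
        obtain ⟨y, rfl⟩ := Submodule.Quotient.mk_surjective W q
        obtain ⟨N, hN⟩ := hkey y hq
        obtain ⟨a', ha'⟩ : ∃ a', a = g ^ N • a' := by
          obtain ⟨u, hu⟩ := (IsLocalization.Away.algebraMap_isUnit (S := L) g).pow N
          exact ⟨↑u⁻¹ * a, by rw [Algebra.smul_def, map_pow, ← hu, ← mul_assoc, Units.mul_inv, one_mul]⟩
        rw [ha', smul_tmul, show g ^ N • (⟨Submodule.Quotient.mk y, hq⟩ : LinearMap.ker F) = 0 from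
          Subtype.ext ((Submodule.Quotient.mk_eq_zero W).mpr hN), tmul_zero]
      | add a b ha hb => rw [ha, hb, add_zero]
    exact Module.FinitePresentation.of_equiv ((LinearEquiv.ofBijective ψ hψ) ≪≫ₗ
      (LocalizedModule.equivTensorProduct (Submonoid.powers g) M).symm)

end Groth.Agent.FlatCrit65
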