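import Groth.Agent.FlatCrit65.FlatLocus.Module

/-!
# Flatness at a prime and surjective changes of the algebra
-/

universe u

open TensorProduct

namespace Groth.Agent.FlatCrit65

/-- Flatness at a prime of `S` may be tested on a ring surjecting onto `S`. -/
theorem flat_localized_comap_iff {R A S M : Type u} [CommRing R] [CommRing A] [CommRing S] [Algebra R A]
    [Algebra R S] [Algebra A S] [IsScalarTower R A S] [AddCommGroup M] [Module S M] [Module A M]
    [Module R M] [IsScalarTower A S M] [IsScalarTower R S M] [IsScalarTower R A M]
    (hsurj : Function.Surjective (algebraMap A S)) (q : Ideal S) [q.IsPrime] :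
    Module.Flat R (LocalizedModule q.primeCompl M) ↔
      Module.Flat R (LocalizedModule (q.comap (algebraMap A S)).primeCompl M) := by
  rw [flat_localized_iff_kernels, flat_localized_iff_kernels]
  refine forall_congr' fun I => forall_congr' fun z => imp_congr_right fun _ => ⟨?_, ?_⟩
  · rintro ⟨s, hs, hsz⟩
    obtain ⟨s', rfl⟩ := hsurj s
    refine ⟨s', hs, ?_⟩
    rw [← algebraMap_smul S s' z]
    exact hsz
  · rintro ⟨s', hs, hsz⟩
    refine ⟨algebraMap A S s', hs, ?_⟩
    rw [algebraMap_smul S s' z]
    exact hsz

end Groth.Agent.FlatCrit65
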