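import Groth.Prelude.Def_FlatCA
import Mathlib.RingTheory.Ideal.GoingUp
import Mathlib.RingTheory.IntegralClosure.IsIntegralClosure.Basic
import Mathlib.RingTheory.LocalRing.ResidueField.Fiber

/-!
Modules with finite support ring are universally pure.
-/

universe u

open TensorProduct

namespace Groth.Agent.FlatCrit65

variable {A B : Type u} [CommRing A] [CommRing B] [Algebra A B]

attribute [local instance] Algebra.TensorProduct.rightAlgebra

/-- A prime over `p` is the contraction of its extension to the fibre over `p`. -/
lemma le_of_fiberIdeal_le (p : Ideal A) [p.IsPrime] (P : Ideal B) [P.IsPrime] [P.LiesOver p]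
    {b : B} (h : (Algebra.TensorProduct.includeRight (R := A) (A := p.ResidueField) (B := B)) b ∈
      FlatCA.fiberIdeal p P) : b ∈ P := by
  let e := PrimeSpectrum.preimageEquivFiber A B ⟨p, inferInstance⟩
  let P0 : PrimeSpectrum.comap (algebraMap A B) ⁻¹' {(⟨p, inferInstance⟩ : PrimeSpectrum A)} :=
    ⟨⟨P, inferInstance⟩, PrimeSpectrum.ext (Ideal.LiesOver.over (P := P) (p := p)).symm⟩
  have hc : (e P0).asIdeal.comap
      (Algebra.TensorProduct.includeRight (R := A) (A := p.ResidueField) (B := B)).toRingHom = P :=
    congrArg (fun z => z.1.asIdeal) (e.symm_apply_apply P0)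
  have hle : FlatCA.fiberIdeal p P ≤ (e P0).asIdeal := Ideal.map_le_iff_le_comap.mpr hc.ge
  exact hc.le (hle h)

/-- An associated prime of a fibre module contains the annihilator of the module. -/
lemma annihilator_le (N : Type u) [AddCommGroup N] [Module B N] [Module A N] [IsScalarTower A B N]
    (p : Ideal A) [p.IsPrime] (P : Ideal B) [P.IsPrime] [P.LiesOver p]
    (h : FlatCA.fiberIdeal p P ∈ associatedPrimes (p.Fiber B) (FlatCA.fiberMod p B N)) :
    Module.annihilator B N ≤ P := by
  intro b hb
  apply le_of_fiberIdeal_le p P
  refine IsAssociatedPrime.annihilator_le h ?_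
  rw [Submodule.mem_annihilator]
  rintro m -
  suffices H : ∀ m : (p.Fiber B) ⊗[B] N,
      (Algebra.TensorProduct.includeRight (R := A) (A := p.ResidueField) (B := B)) b • m = 0 from H m
  intro m
  induction m using TensorProduct.induction_on with
  | zero => exact smul_zero _
  | add x y hx hy => rw [smul_add, hx, hy, add_zero]
  | tmul c n =>
    show ((Algebra.TensorProduct.includeRight (R := A) (A := p.ResidueField) (B := B)) b • c) ⊗ₜ[B] n = 0
    rw [show (Algebra.TensorProduct.includeRight (R := A) (A := p.ResidueField) (B := B)) b • c =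
      b • c from rfl, TensorProduct.smul_tmul, Module.mem_annihilator.mp hb n, tmul_zero]

theorem isUnivPure_of_finite_support (N : Type u) [AddCommGroup N] [Module B N]
    [Module.Finite A (B ⧸ Module.annihilator B N)] : FlatCA.IsUnivPure A B N := by
  intro p _ A' B' N' _ _ _ _ _ _ _ _ _ _ _ _ _ _ f t' t _ _ P _
  rintro ⟨hpush, hf, hle, hover, hP, hass, hno⟩
  classical
  have hAnn : (Module.annihilator B N).map (algebraMap B B') ≤ Module.annihilator B' N' := by
    rw [Ideal.map_le_iff_le_comap]
    intro b hb
    rw [Ideal.mem_comap, Module.mem_annihilator]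
    intro n
    induction n using hf.inductionOn with
    | zero => simp
    | tmul m =>
      rw [algebraMap_smul, ← map_smul, Module.mem_annihilator.mp hb m, map_zero]
    | smul s n ih => rw [smul_comm, ih, smul_zero]
    | add u v hu hv => rw [smul_add, hu, hv, add_zero]
  set J := (Module.annihilator B N).map (algebraMap B B') with hJ
  have hJP : J ≤ P := hAnn.trans (annihilator_le N' t' P hass)
  have hfin : Module.Finite A' (B' ⧸ J) := by
    obtain ⟨G, hG⟩ := Module.Finite.fg_top (R := A) (M := B ⧸ Module.annihilator B N)
    let φ : B ⧸ Module.annihilator B N →+* B' ⧸ J :=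
      Ideal.quotientMap J (algebraMap B B') Ideal.le_comap_map
    refine ⟨⟨G.image φ, eq_top_iff.mpr ?_⟩⟩
    rintro x -
    obtain ⟨x, rfl⟩ := Ideal.Quotient.mk_surjective x
    have hout := (Algebra.IsPushout.symm hpush).out
    induction x using hout.inductionOn with
    | zero => simp
    | tmul b =>
      have hb : Ideal.Quotient.mk (Module.annihilator B N) b ∈
          Submodule.span A (G : Set (B ⧸ Module.annihilator B N)) := hG ▸ Submodule.mem_top
      show φ (Ideal.Quotient.mk (Module.annihilator B N) b) ∈ _
      generalize Ideal.Quotient.mk (Module.annihilator B N) b = c at hb ⊢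
      induction hb using Submodule.span_induction with
      | mem g hg => exact Submodule.subset_span (Finset.mem_image_of_mem _ hg)
      | zero => simp
      | add u v _ _ hu hv => rw [map_add]; exact add_mem hu hv
      | smul a u _ hu =>
        obtain ⟨u, rfl⟩ := Ideal.Quotient.mk_surjective u
        have h' := Submodule.smul_mem (Submodule.span A' ((G.image φ : Finset _) : Set (B' ⧸ J)))
          (algebraMap A A' a) hu
        convert! h' using 1
        rw [Algebra.smul_def, Algebra.smul_def, map_mul]
        congr 1
        show Ideal.Quotient.mk J (algebraMap B B' (algebraMap A B a)) =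
          Ideal.Quotient.mk J (algebraMap A' B' (algebraMap A A' a))
        rw [← IsScalarTower.algebraMap_apply A B B', ← IsScalarTower.algebraMap_apply A A' B']
    | smul s n ih =>
      exact (map_smul (Ideal.Quotient.mkₐ A' J) s n).symm ▸ Submodule.smul_mem _ s ih
    | add u v hu hv => rw [map_add]; exact add_mem hu hv
  have : Algebra.IsIntegral A' (B' ⧸ J) := Algebra.IsIntegral.of_finite A' _
  let P0 := P.map (Ideal.Quotient.mk J)
  have hc : P0.comap (algebraMap A' (B' ⧸ J)) ≤ t := by
    refine le_trans (le_of_eq ?_) hle
    rw [show algebraMap A' (B' ⧸ J) = (Ideal.Quotient.mk J).comp (algebraMap A' B') from rfl,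
      ← Ideal.comap_comap, Ideal.comap_map_of_surjective _ Ideal.Quotient.mk_surjective,
      ← RingHom.ker_eq_comap_bot, Ideal.mk_ker, sup_eq_left.mpr hJP]
    exact (Ideal.LiesOver.over (P := P) (p := t')).symm
  obtain ⟨Q, hQ, hQp, hQt⟩ := Ideal.exists_ideal_over_prime_of_isIntegral t P0 hc
  refine hno (Q.comap (Ideal.Quotient.mk J)) (Ideal.map_le_iff_le_comap.mp hQ) ⟨?_⟩
  rw [← hQt]
  rfl

end Groth.Agent.FlatCrit65
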