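import Groth.Agent.FlatCrit65.Basic
import Mathlib.RingTheory.Flat.Localization

/-!
Flatness from flatness away from a nonzerodivisor and modulo it.
-/

universe u

open TensorProduct

namespace Groth.Agent.FlatCrit65

variable {A M : Type u} [CommRing A] [AddCommGroup M] [Module A M]

theorem flat_of_flat_away (f : A) (hA : f ∈ nonZeroDivisors A) (hM : IsSMulRegular M f)
    [Module.Flat (Localization.Away f) (LocalizedModule (Submonoid.powers f) M)]
    (h2 : Module.Flat (A ⧸ Ideal.span {f}) ((A ⧸ Ideal.span {f}) ⊗[A] M)) : Module.Flat A M := by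
  set I := Ideal.span {f} with hI
  have h1 : Function.Injective (I.subtype.lTensor M) := by
    have hfI : f ∈ I := Ideal.subset_span rfl
    have hex : ∀ x : M ⊗[A] I, ∃ m, x = m ⊗ₜ (⟨f, hfI⟩ : I) := by
      intro x
      induction x with
      | zero => exact ⟨0, (zero_tmul _ _).symm⟩
      | add a b ha hb =>
        obtain ⟨x, rfl⟩ := ha
        obtain ⟨y, rfl⟩ := hb
        exact ⟨x + y, (add_tmul _ _ _).symm⟩
      | tmul m a =>
        obtain ⟨a, ha⟩ := a
        obtain ⟨c, rfl⟩ := Ideal.mem_span_singleton'.mp ha
        refine ⟨c • m, ?_⟩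
        rw [smul_tmul]
        rfl
    rw [injective_iff_map_eq_zero]
    intro x hx
    obtain ⟨m, rfl⟩ := hex x
    have := congrArg (TensorProduct.rid A M) hx
    rw [map_zero, LinearMap.lTensor_tmul, TensorProduct.rid_tmul] at this
    have hm : m = 0 := hM (by simpa using this)
    rw [hm, zero_tmul]
  have hT := torTriv_of_injective h1 h2
  have : Module.Flat A (Localization.Away f) := IsLocalization.flat _ (Submonoid.powers f)
  have : Module.Flat A (LocalizedModule (Submonoid.powers f) M) :=
    Module.Flat.trans A (Localization.Away f) _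
  rw [Module.Flat.iff_lTensor_injective']
  intro J
  rw [injective_iff_map_eq_zero]
  intro x hx
  let ℓ := LocalizedModule.mkLinearMap (Submonoid.powers f) M
  have h0 : ℓ.rTensor J x = 0 := by
    apply Module.Flat.lTensor_preserves_injective_linearMap
      (M := LocalizedModule (Submonoid.powers f) M) J.subtype J.injective_subtype
    rw [map_zero, ← LinearMap.comp_apply, LinearMap.lTensor_comp_rTensor,
      ← LinearMap.rTensor_comp_lTensor, LinearMap.comp_apply, hx, map_zero]
  obtain ⟨⟨_, n, rfl⟩, hn⟩ :=
    (IsLocalizedModule.eq_zero_iff (Submonoid.powers f) (AlgebraTensorModule.rTensor A J ℓ)).mp h0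
  have hn' : f ^ n • x = 0 := hn
  let g : J →ₗ[A] J := LinearMap.lsmul A J (f ^ n)
  have hg : Function.Injective g := by
    intro a b hab
    have h' : (f ^ n) * (a : A) = f ^ n * b := congrArg Subtype.val hab
    exact Subtype.ext ((mul_cancel_left_mem_nonZeroDivisors (pow_mem hA n)).mp h')
  have hg' : Function.Injective (g.lTensor M) := by
    have hle : I ^ n • (⊤ : Submodule A J) ≤ LinearMap.range g := by
      rw [hI, Ideal.span_singleton_pow, Submodule.ideal_span_singleton_smul]
      intro y hy
      obtain ⟨z, -, rfl⟩ := Submodule.mem_smul_pointwise_iff_exists _ _ _ |>.mp hy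
      exact ⟨z, rfl⟩
    have hK := hT.pow n J (LinearMap.range g) hle
    have : g = (LinearMap.range g).subtype ∘ₗ (LinearEquiv.ofInjective g hg).toLinearMap := by
      ext; rfl
    rw [this, LinearMap.lTensor_comp]
    exact hK.comp (LinearEquiv.lTensor M (LinearEquiv.ofInjective g hg)).injective
  apply hg'
  rw [map_zero]
  show (LinearMap.lsmul A J (f ^ n)).lTensor M x = 0
  rw [show LinearMap.lsmul A J (f ^ n) = f ^ n • LinearMap.id from rfl, LinearMap.lTensor_smul,
    LinearMap.smul_apply, LinearMap.lTensor_id, LinearMap.id_apply, hn']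

end Groth.Agent.FlatCrit65
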