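import Groth.Agent.FlatCrit65.Nilpotent
import Mathlib.RingTheory.Flat.Localization
import Mathlib.RingTheory.Artinian.Ring
import Mathlib.RingTheory.Localization.AtPrime.Basic

/-!
Descent of flatness along injective maps out of an Artinian ring.
-/

set_option linter.style.haveILetI false

universe u

open TensorProduct

namespace Groth.Agent.FlatCrit65

lemma ker_eq_bot_of_flat {R : Type u} [CommRing R] {I : Ideal R} (hI : IsNilpotent I)
    {F M : Type u} [AddCommGroup F] [Module R F] [AddCommGroup M] [Module R M] [Module.Flat R M]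
    (φ : F →ₗ[R] M) (hsurj : Function.Surjective φ)
    (h : LinearMap.ker φ ≤ I • ⊤) : LinearMap.ker φ = ⊥ := by
  apply eq_bot_of_le_smul_of_isNilpotent hI
  intro n hn
  have hex : Function.Exact (LinearMap.ker φ).subtype φ := φ.exact_subtype_ker_map
  have hinj : Function.Injective ((LinearMap.ker φ).subtype.lTensor (R ⧸ I)) :=
    LinearMap.lTensor_injective_of_exact_of_flat φ hsurj _ (Submodule.injective_subtype _) hex _
  have h2 : (1 : R ⧸ I) ⊗ₜ[R] (⟨n, hn⟩ : LinearMap.ker φ) = 0 := by
    apply hinj
    rw [map_zero, LinearMap.lTensor_tmul]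
    exact (one_tmul_eq_zero_iff' I n).mpr (h hn)
  exact mem_smul_of_one_tmul_eq_zero I (LinearMap.ker φ) h2

variable {R M : Type u} [CommRing R] [AddCommGroup M] [Module R M]

/-- A free presentation whose kernel lies in `m F`, for `m` nilpotent maximal. -/
lemma exists_presentation (m : Ideal R) [m.IsMaximal] (hm : IsNilpotent m) :
    ∃ (ι : Type u) (φ : (ι →₀ R) →ₗ[R] M),
      Function.Surjective φ ∧ LinearMap.ker φ ≤ m • ⊤ := by
  let inst : Field (R ⧸ m) := Ideal.Quotient.field _
  let e := Module.Basis.ofVectorSpace (R ⧸ m) ((R ⧸ m) ⊗[R] M)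
  have hb : ∀ i, ∃ x : M, e i = (1 : R ⧸ m) ⊗ₜ[R] x := by
    intro i
    generalize e i = y
    induction y with
    | zero => exact ⟨0, (tmul_zero _ _).symm⟩
    | add a b ha hb =>
      obtain ⟨x, rfl⟩ := ha
      obtain ⟨y, rfl⟩ := hb
      exact ⟨x + y, (tmul_add _ _ _).symm⟩
    | tmul a x =>
      obtain ⟨a, rfl⟩ := Ideal.Quotient.mk_surjective a
      refine ⟨a • x, ?_⟩
      rw [tmul_smul, smul_tmul', Algebra.smul_def, mul_one]
      rfl
  choose b hb using hb
  refine ⟨_, Finsupp.linearCombination R b, ?_, ?_⟩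
  all_goals
    have key : ∀ n, (1 : R ⧸ m) ⊗ₜ[R] Finsupp.linearCombination R b n =
        Finsupp.linearCombination (R ⧸ m) e (n.mapRange (Ideal.Quotient.mk m) (map_zero _)) := by
      intro n
      rw [Finsupp.linearCombination_apply (R ⧸ m), Finsupp.sum_mapRange_index (by simp)]
      simp only [Finsupp.linearCombination_apply, Finsupp.sum, tmul_sum]
      refine Finset.sum_congr rfl fun i _ => ?_
      rw [hb, tmul_smul, smul_tmul', smul_tmul']
      simp [Algebra.smul_def]
  · rw [← LinearMap.range_eq_top]
    apply eq_top_of_sup_smul_top_of_isNilpotent hm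
    rw [eq_top_iff]
    intro x _
    obtain ⟨c, hc⟩ := Finsupp.mapRange_surjective (Ideal.Quotient.mk m) (map_zero _)
      Ideal.Quotient.mk_surjective (e.repr ((1 : R ⧸ m) ⊗ₜ[R] x))
    have h1 : (1 : R ⧸ m) ⊗ₜ[R] (x - Finsupp.linearCombination R b c) = 0 := by
      rw [tmul_sub, key, hc, e.linearCombination_repr, sub_self]
    exact Submodule.mem_sup.mpr ⟨_, LinearMap.mem_range_self _ c,
      x - Finsupp.linearCombination R b c, (one_tmul_eq_zero_iff' m _).mp h1, by simp⟩
  · intro n hn
    have h1 : Finsupp.linearCombination (R ⧸ m) e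
        (n.mapRange (Ideal.Quotient.mk m) (map_zero _)) = 0 := by
      rw [← key, LinearMap.mem_ker.mp hn, tmul_zero]
    have h2 := linearIndependent_iff.mp e.linearIndependent _ h1
    rw [← n.sum_single]
    refine Submodule.sum_mem _ fun i _ => ?_
    rw [show Finsupp.single i (n i) = n i • Finsupp.single i 1 by simp]
    exact Submodule.smul_mem_smul
      (Ideal.Quotient.eq_zero_iff_mem.mp (by simpa using DFunLike.congr_fun h2 i)) Submodule.mem_top

lemma one_tmul_eq_zero_of_mem_ker {ι : Type u} (S : Type u) [CommRing S] [Algebra R S]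
    [Module.Flat S (S ⊗[R] M)] {m : Ideal R} (hm : IsNilpotent m) (φ : (ι →₀ R) →ₗ[R] M)
    (hsurj : Function.Surjective φ) (hker : LinearMap.ker φ ≤ m • ⊤) {x : ι →₀ R} (hx : φ x = 0) :
    (1 : S) ⊗ₜ[R] x = 0 := by
  have hJ : IsNilpotent (m.map (algebraMap R S)) := by
    obtain ⟨n, hn⟩ := hm
    exact ⟨n, by rw [← Ideal.map_pow, hn, Ideal.zero_eq_bot, Ideal.map_bot, Ideal.zero_eq_bot]⟩
  have hs : Function.Surjective (φ.baseChange S) := LinearMap.lTensor_surjective S hsurj
  have h := ker_eq_bot_of_flat hJ (φ.baseChange S) hs ?_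
  · have : (1 : S) ⊗ₜ[R] x ∈ LinearMap.ker (φ.baseChange S) := by simp [hx]
    rwa [h, Submodule.mem_bot] at this
  intro y hy
  have hy' : φ.lTensor S y = 0 := hy
  have hex : Function.Exact (LinearMap.ker φ).subtype φ := φ.exact_subtype_ker_map
  obtain ⟨z, rfl⟩ := (@lTensor_exact R (LinearMap.ker φ) (ι →₀ R) M _ _ _ _ _ _ _
    (LinearMap.ker φ).subtype φ S _ _ hex hsurj y).mp hy'
  clear hy hy'
  induction z with
  | zero => simp
  | add a b ha hb => rw [map_add]; exact add_mem ha hb
  | tmul s k =>
    rw [LinearMap.lTensor_tmul, Submodule.subtype_apply]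
    refine Submodule.smul_induction_on (hker k.2) (fun r hr n _ => ?_) (fun a b ha hb => ?_)
    · rw [tmul_smul, ← algebraMap_smul S r (s ⊗ₜ[R] n)]
      exact Submodule.smul_mem_smul (Ideal.mem_map_of_mem _ hr) Submodule.mem_top
    · rw [tmul_add]; exact add_mem ha hb

/-- Local case: if `R → S × T` is injective and the base changes of `M` are flat, so is `M`. -/
theorem flat_of_jointly_injective_local [IsLocalRing R]
    (hm : IsNilpotent (IsLocalRing.maximalIdeal R))
    (S T : Type u) [CommRing S] [CommRing T] [Algebra R S] [Algebra R T]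
    (hinj : ∀ r : R, algebraMap R S r = 0 → algebraMap R T r = 0 → r = 0)
    [Module.Flat S (S ⊗[R] M)] [Module.Flat T (T ⊗[R] M)] : Module.Flat R M := by
  obtain ⟨ι, φ, hsurj, hker⟩ := exists_presentation (M := M) _ hm
  have hzero : LinearMap.ker φ = ⊥ := by
    rw [eq_bot_iff]
    intro x hx
    have hS := one_tmul_eq_zero_of_mem_ker S hm φ hsurj hker hx
    have hT := one_tmul_eq_zero_of_mem_ker T hm φ hsurj hker hx
    rw [Submodule.mem_bot]
    ext i
    apply hinj
    · have := congrArg ((Finsupp.lapply i).lTensor S) hS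
      simpa [Algebra.smul_def] using congrArg (TensorProduct.rid R S) this
    · have := congrArg ((Finsupp.lapply i).lTensor T) hT
      simpa [Algebra.smul_def] using congrArg (TensorProduct.rid R T) this
  exact Module.Flat.of_linearEquiv
    (LinearEquiv.ofBijective φ ⟨LinearMap.ker_eq_bot.mp hzero, hsurj⟩).symm

lemma flat_localization_baseChange (p : Submonoid R) (S : Type u) [CommRing S] [Algebra R S]
    [Module.Flat S (S ⊗[R] M)] :
    Module.Flat (Localization (Algebra.algebraMapSubmonoid S p))
      (Localization (Algebra.algebraMapSubmonoid S p) ⊗[Localization p]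
        (Localization p ⊗[R] M)) := by
  let S' := Localization (Algebra.algebraMapSubmonoid S p)
  have : Module.Flat S' (S' ⊗[S] (S ⊗[R] M)) := inferInstance
  exact Module.Flat.of_linearEquiv
    ((AlgebraTensorModule.cancelBaseChange R (Localization p) S' S' M).trans
      (AlgebraTensorModule.cancelBaseChange R S S' S' M).symm)

/-- If `R` is Artinian and `R → S × T` is injective, flatness of `M` descends. -/
theorem flat_of_jointly_injective [IsArtinianRing R]
    (S T : Type u) [CommRing S] [CommRing T] [Algebra R S] [Algebra R T]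
    (hinj : ∀ r : R, algebraMap R S r = 0 → algebraMap R T r = 0 → r = 0)
    [Module.Flat S (S ⊗[R] M)] [Module.Flat T (T ⊗[R] M)] : Module.Flat R M := by
  apply Module.flat_of_localized_maximal
  intro P hP
  let p := P.primeCompl
  have hnil : IsNilpotent (IsLocalRing.maximalIdeal (Localization.AtPrime P)) := by
    rw [← IsLocalRing.jacobson_eq_maximalIdeal (⊥ : Ideal (Localization.AtPrime P)) bot_ne_top]
    exact IsArtinianRing.isNilpotent_jacobson_bot
  have := flat_localization_baseChange (M := M) p S
  have := flat_localization_baseChange (M := M) p T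
  have key : Module.Flat (Localization p) (Localization p ⊗[R] M) := by
    refine flat_of_jointly_injective_local (R := Localization.AtPrime P) hnil
      (Localization (Algebra.algebraMapSubmonoid S p))
      (Localization (Algebra.algebraMapSubmonoid T p)) ?_
    intro x hx1 hx2
    obtain ⟨⟨r, s⟩, rfl⟩ := IsLocalization.mk'_surjective p x |>.imp fun _ => id
    simp only [localizationAlgebraMap_def, IsLocalization.map_mk',
      IsLocalization.mk'_eq_zero_iff] at hx1 hx2
    obtain ⟨⟨_, a, ha, rfl⟩, ha'⟩ := hx1
    obtain ⟨⟨_, b, hb, rfl⟩, hb'⟩ := hx2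
    refine (IsLocalization.mk'_eq_zero_iff r s).mpr ⟨⟨a * b, mul_mem ha hb⟩, hinj _ ?_ ?_⟩
    · simp only [map_mul] at ha' ⊢
      rw [mul_right_comm, ha', zero_mul]
    · simp only [map_mul] at hb' ⊢
      rw [mul_assoc, hb', mul_zero]
  have : Module.Flat R (Localization p ⊗[R] M) := Module.Flat.trans R (Localization p) _
  have hloc : IsLocalizedModule p (TensorProduct.mk R (Localization p) M 1) :=
    (isLocalizedModule_iff_isBaseChange p (Localization p) _).mpr
      (TensorProduct.isBaseChange R M (Localization p))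
  exact Module.Flat.of_linearEquiv
    (IsLocalizedModule.iso p (TensorProduct.mk R (Localization p) M 1))

end Groth.Agent.FlatCrit65
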