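import Groth.Agent.LimTop61.LowerSemi
import Groth.Agent.FibDim94.BaseChange
import Groth.Agent.E4O.GenOpen
import Groth.Agent.E4O.FibreComp
import Groth.Agent.Curves2.CurveComponents
import Groth.Agent.S0429
import Groth.Prelude.Def_Flat
import Mathlib

/-!
Fibre dimension of a flat morphism bounded over a dense open.
-/

set_option autoImplicit false
set_option linter.style.haveILetI false

universe u

open CategoryTheory CategoryTheory.Limits AlgebraicGeometry TopologicalSpace Topology

namespace Groth.Agent.FlatCrit65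

theorem fibreDimAt_le_of_dense_lfp {X S : Scheme.{u}} (f : X ⟶ S) [Flat f] [LocallyOfFinitePresentation f]
    (U : S.Opens) (hU : Dense (U : Set S)) (c : WithBot ℕ∞)
    (hle : ∀ x : X, f x ∈ U → FlatMor.fibreDimAt f x ≤ c) (x : X) : FlatMor.fibreDimAt f x ≤ c := by
  by_contra hne
  have hs : f x ∈ {s : S | c < topologicalKrullDim (f.fiber s)} :=
    (lt_of_not_ge hne).trans_le (E4O.fibreDimAt_le_dim_fiber f x)
  obtain ⟨s, hsV, hsU⟩ := hU.inter_open_nonempty _ (LimTop61.LowerSemi.isOpen_lt_fibreDim f c) ⟨_, hs⟩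
  obtain ⟨p, hp⟩ : ∃ p : f.fiber s, c < FlatMor.localDim ↥(f.fiber s) p := by
    have h := hsV
    change c < topologicalKrullDim ↥(f.fiber s) at h
    rwa [TopDim50.dim_eq_iSup_localDim, lt_iSup_iff] at h
  have hy : f (f.fiberι s p) = s := (f.range_fiberι s).le ⟨p, rfl⟩
  generalize hy' : f.fiberι s p = y at hy
  subst hy
  have hpy : p = f.asFiber y := (f.fiberι _).isEmbedding.injective
    (hy'.trans (Scheme.Hom.fiberι_asFiber f y).symm)
  subst hpy
  exact (hle y hsU).not_gt hp

theorem fibreDimAt_le_of_dense_retrocompact {X S : Scheme.{u}} (f : X ⟶ S) [Flat f] [LocallyOfFiniteType f]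
    (U : S.Opens) (hU : Dense (U : Set S)) (hUr : IsRetrocompact (U : Set S)) (c : WithBot ℕ∞)
    (hle : ∀ x : X, f x ∈ U → FlatMor.fibreDimAt f x ≤ c) (x : X) : FlatMor.fibreDimAt f x ≤ c := by
  obtain ⟨Z, hZ, hsZ⟩ : ∃ Z ∈ irreducibleComponents S, f x ∈ Z :=
    ⟨_, irreducibleComponent_mem_irreducibleComponents _, mem_irreducibleComponent⟩
  have hirr : IsIrreducible Z := hZ.1
  have hcl : IsClosed Z := isClosed_of_mem_irreducibleComponents Z hZ
  let Zc : Closeds S := ⟨Z, hcl⟩
  have hgen : IsGenericPoint hirr.genericPoint Z := by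
    have h := hirr.isGenericPoint_genericPoint_closure
    rwa [hcl.closure_eq] at h
  have hgenU : hirr.genericPoint ∈ U := by
    obtain ⟨z, hzU, hz⟩ := E4O.exists_specializes_of_mem_closure_isLocallyConstructible
      ((hUr.isConstructible U.2).isLocallyConstructible) (hU hirr.genericPoint)
    have h1 : Z ⊆ closure {z} := by
      rw [← (isClosed_of_mem_irreducibleComponents Z hZ).closure_eq, ← hZ.1.isGenericPoint_genericPoint_closure.def]
      exact (specializes_iff_closure_subset).1 hz
    have h2 : closure {z} ⊆ Z := hZ.2 isIrreducible_singleton.closure h1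
    have h3 : z = hirr.genericPoint :=
      IsGenericPoint.eq (show IsGenericPoint z Z from h2.antisymm h1) hgen
    exact h3 ▸ hzU
  let i := (Scheme.IdealSheafData.vanishingIdeal Zc).subschemeι
  haveI : IsIntegral (Scheme.IdealSheafData.vanishingIdeal Zc).subscheme := Curves2.isIntegral_vanishingIdeal Zc hirr
  have hr : Set.range i = Z := by
    rw [Scheme.IdealSheafData.range_subschemeι, Scheme.IdealSheafData.coe_support_vanishingIdeal]
    rfl
  have hsq : IsPullback (pullback.fst f i) (pullback.snd f i) f i := IsPullback.of_hasPullback f i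
  haveI : Flat (pullback.snd f i) := inferInstance
  haveI : LocallyOfFiniteType (pullback.snd f i) := inferInstance
  haveI : LocallyOfFinitePresentation (pullback.snd f i) := S0429.result (pullback.snd f i)
  obtain ⟨t, ht⟩ := hr.ge hgen.mem
  obtain ⟨t', ht'⟩ := hr.ge hsZ
  obtain ⟨a, ha, -⟩ := Scheme.Pullback.exists_preimage_pullback x t' ht'.symm
  have hd : Dense (SetLike.coe (i ⁻¹ᵁ U)) :=
    (i ⁻¹ᵁ U).isOpen.dense ⟨t, show i t ∈ U from ht ▸ hgenU⟩
  have h := fibreDimAt_le_of_dense_lfp (pullback.snd f i) (i ⁻¹ᵁ U) hd c (fun b hb => by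
    rw [FibDim94.fibreDimAt_eq_of_isPullback hsq]
    refine hle _ ?_
    rw [← Scheme.Hom.comp_apply, pullback.condition, Scheme.Hom.comp_apply]
    exact hb) a
  rwa [FibDim94.fibreDimAt_eq_of_isPullback hsq, ha] at h

end Groth.Agent.FlatCrit65
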