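import Groth.Agent.Henz21.IndEtale
import Groth.Agent.Henz21.Unique
import Groth.Agent.Ind91.Etale
import Groth.Agent.FlatMor67.FlatMul
import Groth.Agent.WE24.AbsFlat

/-!
# Henselizations are weakly étale
-/

universe u

noncomputable section

namespace Groth.Agent.FlatCrit65

variable (R S : Type u) [CommRing R] [IsLocalRing R] [CommRing S] [IsLocalRing S] [Algebra R S]
  [IsLocalHom (algebraMap R S)]

theorem weaklyEtale_henselization [Hensel.IsHenselization R S] : Algebra.WeaklyEtale R S :=
  Ind91.weaklyEtale_of_isIndEtale (Henz21.H.isIndEtale_of_algEquiv R _ S (Henz21.henselizationEquiv (R := R) S))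

theorem weaklyEtale_strictHenselization [Hensel.IsStrictHenselization R S] : Algebra.WeaklyEtale R S :=
  Ind91.weaklyEtale_of_isIndEtale
    (Henz21.H.isIndEtale_of_algEquiv R _ S (Henz21.strictHenselizationEquiv (R := R) S))

end Groth.Agent.FlatCrit65
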