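import Groth.Prelude.Def_FlatCA
import Mathlib.RingTheory.AdicCompletion.Basic
import Mathlib.RingTheory.Nakayama
import Mathlib.RingTheory.FiniteType
import Mathlib.Algebra.DirectSum.Module
import Mathlib.RingTheory.LocalRing.Basic

/-!
Multiplication by `1 - a` with `a` in the extension of an ideal, and associated primes of tensors.
-/

universe u

open TensorProduct

namespace Groth.Agent.FlatCrit65

variable {R S N : Type u} [CommRing R] [CommRing S] [Algebra R S] [AddCommGroup N] [Module S N]
  [Module R N] [IsScalarTower R S N]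

lemma smul_mem_of_mem_map {I : Ideal R} {a : S} (ha : a ∈ I.map (algebraMap R S)) {J : Ideal R}
    {n : N} (hn : n ∈ J • (⊤ : Submodule R N)) : a • n ∈ (I * J) • (⊤ : Submodule R N) := by
  induction ha using Submodule.span_induction generalizing n with
  | mem x hx =>
    obtain ⟨c, hc, rfl⟩ := hx
    rw [algebraMap_smul, Submodule.mul_smul]
    exact Submodule.smul_mem_smul hc hn
  | zero => simp
  | add x y _ _ hx hy => rw [add_smul]; exact add_mem (hx hn) (hy hn)
  | smul c x _ hx =>
    have hcn : c • n ∈ J • (⊤ : Submodule R N) := by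
      refine Submodule.smul_induction_on hn (fun r hr m _ => ?_) (fun u v hu hv => ?_)
      · rw [smul_comm]
        exact Submodule.smul_mem_smul hr Submodule.mem_top
      · rw [smul_add]; exact add_mem hu hv
    have h' := hx hcn
    rwa [smul_smul, mul_comm x c] at h'

/-- If `1 - a` acts injectively on `N ⊗ M` for all `a ∈ I S`, no associated prime of `N ⊗ M` is
coprime to `I S`. -/
lemma sup_ne_top_of_injective (I : Ideal R) {M : Type u} [AddCommGroup M] [Module R M]
    (h : ∀ a ∈ I.map (algebraMap R S),
      Function.Injective ((((LinearMap.lsmul S N) (1 - a)).restrictScalars R).rTensor M))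
    (q : Ideal S) [hqp : q.IsPrime] (hq : q ∈ FlatCA.ass S (N ⊗[R] M)) :
    q ⊔ I.map (algebraMap R S) ≠ ⊤ := by
  intro htop
  obtain ⟨f, hf, a, ha, hfa⟩ := Submodule.mem_sup.mp
    (show (1 : S) ∈ q ⊔ I.map (algebraMap R S) from htop ▸ Submodule.mem_top)
  obtain ⟨-, m, hm⟩ := hq
  have hfm : f • m = 0 := by
    rw [hm, Submodule.mem_annihilator_span_singleton] at hf
    exact hf
  have hf' : (1 - a) = f := by rw [← hfa, add_sub_cancel_right]
  have key : ∀ y : N ⊗[R] M,
      (((LinearMap.lsmul S N) (1 - a)).restrictScalars R).rTensor M y = (1 - a) • y := by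
    intro y
    induction y with
    | zero => simp
    | add u v hu hv => rw [map_add, hu, hv, smul_add]
    | tmul n x =>
      rw [smul_tmul']
      rfl
  have hm0 : m = 0 := by
    apply h a ha
    rw [key, hf', hfm, map_zero]
  apply hqp.ne_top
  rw [hm, hm0, Submodule.span_zero_singleton, Submodule.annihilator_bot]

lemma bijective_one_sub_of_isAdicComplete (I : Ideal R) [IsAdicComplete I N] {a : S}
    (ha : a ∈ I.map (algebraMap R S)) :
    Function.Bijective (((LinearMap.lsmul S N) (1 - a)).restrictScalars R) := by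
  have hk : ∀ (n : N) (k : ℕ), a ^ k • n ∈ I ^ k • (⊤ : Submodule R N) := by
    intro n k
    induction k with
    | zero => simp
    | succ k ih =>
      rw [pow_succ' a, mul_smul, pow_succ' I]
      exact smul_mem_of_mem_map ha ih
  refine ⟨(injective_iff_map_eq_zero _).mpr fun n hn => ?_, fun y => ?_⟩
  · have h1 : a • n = n := by
      have : n - a • n = 0 := by simpa [sub_smul] using hn
      exact (sub_eq_zero.mp this).symm
    apply IsHausdorff.haus' (I := I)
    intro k
    rw [SModEq.zero]
    have h2 : a ^ k • n = n := by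
      induction k with
      | zero => simp
      | succ k ih => rw [pow_succ, mul_smul, h1, ih]
    rw [← h2]
    exact hk n k
  · let g : ℕ → N := fun k => ∑ i ∈ Finset.range k, a ^ i • y
    obtain ⟨L, hL⟩ := IsPrecomplete.prec (I := I) inferInstance (f := g) (fun {i j} hij => by
      rw [SModEq.sub_mem, ← neg_sub, neg_mem_iff, ← Finset.sum_Ico_eq_sub _ hij]
      exact sum_mem fun l hl =>
        Submodule.smul_mono_left (Ideal.pow_le_pow_right (Finset.mem_Ico.mp hl).1) (hk y l))
    refine ⟨L, ?_⟩
    rw [IsHausdorff.eq_iff_smodEq (I := I)]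
    intro k
    have h1 : (1 - a) • g k = y - a ^ k • y := by
      rw [show g k = (∑ i ∈ Finset.range k, a ^ i) • y from Finset.sum_smul.symm, smul_smul,
        mul_neg_geom_sum, sub_smul, one_smul]
    have h2 := SModEq.sub_mem.mp (hL k)
    have h3 : (1 - a) • (g k - L) ∈ I ^ k • (⊤ : Submodule R N) := by
      refine Submodule.smul_induction_on h2 (fun r hr m _ => ?_) (fun u v hu hv => ?_)
      · rw [smul_comm]; exact Submodule.smul_mem_smul hr Submodule.mem_top
      · rw [smul_add]; exact add_mem hu hv
    rw [SModEq.sub_mem]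
    show (1 - a) • L - y ∈ _
    rw [show (1 - a) • L - y = -(a ^ k • y) - (1 - a) • (g k - L) by rw [smul_sub, h1]; abel]
    exact sub_mem (neg_mem (hk y k)) h3

lemma rTensor_injective_one_sub_of_internal [IsLocalRing R] (ι : Type u) (F : ι → Submodule R N)
    [DecidableEq ι] (hF : DirectSum.IsInternal F) (hfin : ∀ i, Module.Finite R (F i))
    {M : Type u} [AddCommGroup M] [Module R M] {a : S}
    (ha : a ∈ (IsLocalRing.maximalIdeal R).map (algebraMap R S)) :
    Function.Injective ((((LinearMap.lsmul S N) (1 - a)).restrictScalars R).rTensor M) := by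
  classical
  set f := ((LinearMap.lsmul S N) (1 - a)).restrictScalars R with hfdef
  rw [injective_iff_map_eq_zero]
  intro x hx
  obtain ⟨P, hP, y, rfl⟩ : ∃ (P : Submodule R N) (_ : P.FG) (y : P ⊗[R] M),
      x = P.subtype.rTensor M y := by
    clear hx
    induction x with
    | zero => exact ⟨⊥, Submodule.fg_bot, 0, by simp⟩
    | add u v hu hv =>
      obtain ⟨P, hP, y, rfl⟩ := hu
      obtain ⟨P', hP', y', rfl⟩ := hv
      refine ⟨P ⊔ P', hP.sup hP', (Submodule.inclusion le_sup_left).rTensor M y +
        (Submodule.inclusion le_sup_right).rTensor M y', ?_⟩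
      rw [map_add, ← LinearMap.rTensor_comp_apply, ← LinearMap.rTensor_comp_apply]
      rfl
    | tmul n z =>
      exact ⟨Submodule.span R {n}, Submodule.fg_span_singleton n,
        ⟨n, Submodule.mem_span_singleton_self n⟩ ⊗ₜ z, rfl⟩
  let e : (DirectSum ι fun i => F i) ≃ₗ[R] N := LinearEquiv.ofBijective (DirectSum.coeLinearMap F) hF
  obtain ⟨gens, hgens⟩ := hP
  let s : Finset ι := gens.biUnion fun n => (e.symm n).support
  let G : Submodule R N := ⨆ i ∈ s, F i
  have hGfg : G.FG := Submodule.fg_biSup s F fun i _ => Module.Finite.iff_fg.mp (hfin i)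
  have hPG : P ≤ G := by
    rw [← hgens, Submodule.span_le]
    intro n hn
    have h1 : e (e.symm n) ∈ G := by
      classical
      rw [← DirectSum.sum_support_of (e.symm n), map_sum]
      refine sum_mem fun i hi => ?_
      refine (le_biSup (f := F) (Finset.mem_biUnion.mpr ⟨n, hn, hi⟩) : F i ≤ G) ?_
      rw [show e (DirectSum.of (fun i => F i) i (e.symm n i)) = (e.symm n i : N) from
        DirectSum.coeLinearMap_of F i _]
      exact (e.symm n i).2
    rwa [e.apply_symm_apply] at h1
  let c : (DirectSum ι fun i => F i) →ₗ[R] (DirectSum ι fun i => F i) :=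
    DirectSum.toModule R ι _ fun i => if i ∈ s then DirectSum.lof R ι (fun i => F i) i else 0
  let pr : N →ₗ[R] N := e.toLinearMap ∘ₗ c ∘ₗ e.symm.toLinearMap
  have hpr_mem : ∀ n, pr n ∈ G := by
    intro n
    simp only [pr, LinearMap.comp_apply, LinearEquiv.coe_coe]
    induction e.symm n using DirectSum.induction_on with
    | zero => simp
    | of i z =>
      rw [← DirectSum.lof_eq_of R, DirectSum.toModule_lof]
      split_ifs with hi
      · rw [DirectSum.lof_eq_of, show e (DirectSum.of (fun i => F i) i z) = (z : N) from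
          DirectSum.coeLinearMap_of F i z]
        exact (le_biSup (f := F) hi : F i ≤ G) z.2
      · simp
    | add u v hu hv => rw [map_add, map_add]; exact add_mem hu hv
  have hpr_id : ∀ n ∈ G, pr n = n := by
    intro n hn
    have hle : G ≤ LinearMap.eqLocus pr LinearMap.id := by
      refine iSup₂_le fun i hi z hz => ?_
      show pr z = z
      have h1 : e.symm z = DirectSum.lof R ι (fun i => F i) i ⟨z, hz⟩ := by
        apply e.injective
        rw [e.apply_symm_apply, DirectSum.lof_eq_of]
        exact (DirectSum.coeLinearMap_of F i ⟨z, hz⟩).symm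
      simp only [pr, LinearMap.comp_apply, LinearEquiv.coe_coe]
      rw [h1, DirectSum.toModule_lof, if_pos hi, ← h1, e.apply_symm_apply]
    exact hle hn
  let p : N →ₗ[R] G := pr.codRestrict G hpr_mem
  have : Module.Finite R G := Module.Finite.iff_fg.mpr hGfg
  let E : G →ₗ[R] G := p ∘ₗ f ∘ₗ G.subtype
  have hEsurj : Function.Surjective E := by
    rw [← LinearMap.range_eq_top, eq_top_iff]
    apply Submodule.le_of_le_smul_of_le_jacobson_bot Module.Finite.fg_top
      (IsLocalRing.maximalIdeal_le_jacobson _)
    intro g _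
    have h1 : a • (g : N) ∈ IsLocalRing.maximalIdeal R • (⊤ : Submodule R N) := by
      simpa using smul_mem_of_mem_map (J := ⊤) ha (show (g : N) ∈ (⊤ : Ideal R) • (⊤ : Submodule R N) by simp)
    have h2 := Submodule.mem_map_of_mem (f := p) h1
    rw [Submodule.map_smul''] at h2
    refine Submodule.mem_sup.mpr ⟨E g, LinearMap.mem_range_self E g, p (a • (g : N)),
      Submodule.smul_mono le_rfl le_top h2, ?_⟩
    simp only [E, LinearMap.comp_apply, Submodule.subtype_apply, ← map_add, hfdef,
      LinearMap.coe_restrictScalars, LinearMap.lsmul_apply, sub_smul, one_smul, sub_add_cancel]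
    exact Subtype.ext (hpr_id _ g.2)
  let e' := LinearEquiv.ofBijective E ⟨OrzechProperty.injective_of_surjective_endomorphism E hEsurj, hEsurj⟩
  let z := (Submodule.inclusion hPG).rTensor M y
  have hz : G.subtype.rTensor M z = P.subtype.rTensor M y := by
    rw [← LinearMap.rTensor_comp_apply]
    rfl
  have h0 : e'.toLinearMap.rTensor M z = 0 := by
    show (p ∘ₗ f ∘ₗ G.subtype).rTensor M z = 0
    rw [LinearMap.rTensor_comp_apply, LinearMap.rTensor_comp_apply, hz, hx, map_zero]
  have hz0 : z = 0 := (LinearEquiv.rTensor M e').injective (by rw [map_zero]; exact h0)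
  rw [← hz, hz0, map_zero]

end Groth.Agent.FlatCrit65
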