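import Mathlib.RingTheory.Nakayama
import Mathlib.RingTheory.Ideal.Quotient.Operations
import Mathlib.RingTheory.LocalRing.MaximalIdeal.Basic
import Mathlib.Order.Zorn
import Mathlib.RingTheory.Finiteness.Ideal

/-!
Intersections of powers of finitely generated ideals in local domains.
-/

universe u

namespace Groth.Agent.FlatCrit65

variable {A : Type u} [CommRing A] [IsLocalRing A]

lemma eq_bot_of_le_mul {J : Ideal A} {K : Ideal A} (hJ : J.FG) (hK : K ≠ ⊤) (h : J ≤ K * J) :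
    J = ⊥ :=
  Submodule.eq_bot_of_le_smul_of_le_jacobson_bot K J hJ (by rwa [smul_eq_mul])
    (by rw [IsLocalRing.jacobson_eq_maximalIdeal ⊥ bot_ne_top]; exact IsLocalRing.le_maximalIdeal hK)

theorem le_of_le_pow (I J : Ideal A) (hJ : J.FG) (hJ1 : J ≠ ⊤)
    (hI : ∀ n : ℕ, 1 ≤ n → I ≤ J ^ n) (p : Ideal A) [p.IsPrime] (hp : ¬ J ≤ p)
    (hmax : ∀ (p' : Ideal A), p'.IsPrime → p ≤ p' → ¬ J ≤ p' → p' = p) : I ≤ p := by
  by_contra hIp
  obtain ⟨x, hxI, hxp⟩ := Set.not_subset.mp hIp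
  have hrad : J ≤ (p ⊔ Ideal.span {x}).radical := by
    rw [Ideal.radical_eq_sInf]
    refine le_sInf fun P ⟨hle, hP⟩ => ?_
    by_contra hJP
    have := hmax P hP (le_sup_left.trans hle) hJP
    subst this
    exact hxp (hle (Ideal.mem_sup_right (Ideal.mem_span_singleton_self x)))
  obtain ⟨m, hm⟩ := Ideal.exists_pow_le_of_le_radical_of_fg hrad hJ
  have hle : J ^ m ≤ p ⊔ J ^ (m + 1) := hm.trans (sup_le le_sup_left
    (le_sup_of_le_right (by
      rw [Ideal.span_le, Set.singleton_subset_iff]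
      exact hI (m + 1) (by omega) hxI)))
  let π := Ideal.Quotient.mk p
  have h2 : (J ^ m).map π ≤ J.map π * (J ^ m).map π := by
    refine (Ideal.map_mono hle).trans ?_
    rw [Ideal.map_sup, Ideal.map_quotient_self, bot_sup_eq, pow_succ', Ideal.map_mul]
  have hJtop : J.map π ≠ ⊤ := by
    intro htop
    have h1 : (J.map π).comap π = ⊤ := by rw [htop, Ideal.comap_top]
    rw [Ideal.comap_map_of_surjective π Ideal.Quotient.mk_surjective, ← RingHom.ker_eq_comap_bot,
      Ideal.mk_ker] at h1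
    exact (IsLocalRing.maximalIdeal.isMaximal A).ne_top (top_le_iff.mp (h1.ge.trans
      (sup_le (IsLocalRing.le_maximalIdeal hJ1) (IsLocalRing.le_maximalIdeal (Ideal.IsPrime.ne_top ‹_›)))))
  have : IsLocalRing (A ⧸ p) :=
    IsLocalRing.of_surjective' π Ideal.Quotient.mk_surjective
  have h3 := eq_bot_of_le_mul ((Ideal.FG.pow (n := m) hJ).map π) hJtop h2
  rw [Ideal.map_eq_bot_iff_le_ker, Ideal.mk_ker] at h3
  exact hp (Ideal.IsPrime.le_of_pow_le h3)

theorem sInf_eq_bot [IsDomain A] (hA : ¬ IsField A)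
    (𝒮 : Set (Ideal A)) (hfg : ∀ I ∈ 𝒮, I.FG) (hmul : ∀ I ∈ 𝒮, ∀ J ∈ 𝒮, I * J ∈ 𝒮)
    (hne : ∀ I ∈ 𝒮, I ≠ ⊥) (hcov : ∀ (p : Ideal A), p.IsPrime → p ≠ ⊥ → ∃ I ∈ 𝒮, I ≤ p) :
    sInf 𝒮 = ⊥ := by
  rw [eq_bot_iff]
  intro x hx
  rw [Submodule.mem_bot]
  by_contra hx0
  have hall : ∀ I ∈ 𝒮, x ∈ I := fun I hI => (sInf_le hI : sInf 𝒮 ≤ I) hx
  have hm : IsLocalRing.maximalIdeal A ≠ ⊥ := fun h => hA (IsLocalRing.isField_iff_maximalIdeal_eq.mpr h)
  obtain ⟨I₀, hI₀, hI₀m⟩ := hcov _ (IsLocalRing.maximalIdeal.isMaximal A).isPrime hm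
  have hxm : x ∈ IsLocalRing.maximalIdeal A := hI₀m (hall I₀ hI₀)
  have key : ∃ I ∈ 𝒮, I ≤ Ideal.span {x} := by
    by_contra hcon
    push Not at hcon
    obtain ⟨P, hxP, hP⟩ := zorn_le_nonempty₀ {𝔞 : Ideal A | x ∈ 𝔞 ∧ ∀ I ∈ 𝒮, ¬ I ≤ 𝔞}
      (fun c hc hchain y hy => by
        refine ⟨sSup c, ⟨(le_sSup hy : y ≤ sSup c) (hc hy).1, fun I hI hle => ?_⟩, fun z hz => le_sSup hz⟩
        obtain ⟨s, hs⟩ := hfg I hI
        have hmem : ∀ z ∈ s, ∃ b ∈ c, z ∈ b := fun z hz => by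
          have : z ∈ sSup c := hle (hs ▸ Submodule.subset_span hz)
          exact (Submodule.mem_sSup_of_directed ⟨y, hy⟩ hchain.directedOn).mp this
        choose! g hg hzg using hmem
        have : ∃ b ∈ c, ∀ z ∈ s, z ∈ b := by
          classical
          clear hs
          induction s using Finset.induction with
          | empty => exact ⟨y, hy, by simp⟩
          | insert a t _ ih =>
            obtain ⟨b, hb, hbt⟩ := ih (fun z hz => hg z (Finset.mem_insert_of_mem hz))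
              (fun z hz => hzg z (Finset.mem_insert_of_mem hz))
            obtain ⟨b', hb', h1, h2⟩ := hchain.directedOn b hb (g a) (hg a (Finset.mem_insert_self a t))
            refine ⟨b', hb', fun z hz => ?_⟩
            rcases Finset.mem_insert.mp hz with rfl | hz
            · exact h2 (hzg _ (Finset.mem_insert_self _ t))
            · exact h1 (hbt z hz)
        obtain ⟨b, hb, hbs⟩ := this
        exact (hc hb).2 I hI (hs ▸ Submodule.span_le.mpr hbs))
      (Ideal.span {x}) ⟨Ideal.mem_span_singleton_self x, hcon⟩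
    obtain ⟨⟨hxP', hPno⟩, hPmax⟩ := hP
    have hmaxP : ∀ a, a ∉ P → ∃ I ∈ 𝒮, I ≤ P ⊔ Ideal.span {a} := by
      intro a ha
      by_contra hc
      push Not at hc
      exact ha (hPmax (y := P ⊔ Ideal.span {a}) ⟨Ideal.mem_sup_left hxP', hc⟩ le_sup_left
        (Ideal.mem_sup_right (Ideal.mem_span_singleton_self a)))
    have hPprime : P.IsPrime := by
      refine ⟨fun htop => hPno I₀ hI₀ (htop ▸ le_top), fun {a b} hab => ?_⟩
      by_contra hc
      push Not at hc
      obtain ⟨I, hI, hIle⟩ := hmaxP a hc.1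
      obtain ⟨J, hJ, hJle⟩ := hmaxP b hc.2
      refine hPno _ (hmul I hI J hJ) ((Ideal.mul_mono hIle hJle).trans ?_)
      rw [Ideal.sup_mul, Ideal.mul_sup, Ideal.mul_sup, Ideal.span_singleton_mul_span_singleton]
      refine sup_le (sup_le Ideal.mul_le_left ?_) (sup_le ?_ ?_) <;>
        first | exact Ideal.mul_le_left | exact Ideal.mul_le_right | skip
      rw [Ideal.span_le, Set.singleton_subset_iff]
      exact hab
    obtain ⟨I, hI, hIle⟩ := hcov P hPprime (fun h => hx0 (by rw [h] at hxP'; exact hxP'))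
    exact hPno I hI hIle
  obtain ⟨I, hI, hIle⟩ := key
  have hxII : x ∈ I * I := hall _ (hmul I hI I hI)
  have hIne : I ≠ ⊤ := fun h => (IsLocalRing.maximalIdeal.isMaximal A).ne_top
    (top_le_iff.mp ((h.ge.trans hIle).trans (by rw [Ideal.span_le, Set.singleton_subset_iff]; exact hxm)))
  refine hne I hI (eq_bot_of_le_mul (hfg I hI) hIne (hIle.trans ?_))
  rw [Ideal.span_le, Set.singleton_subset_iff]
  exact hxII

end Groth.Agent.FlatCrit65
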