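import Groth.Agent.DR39.Restrict
import Groth.Agent.FlatMor67.FlatMul
import Mathlib.RingTheory.Etale.Weakly

/-!
# Tor amplitude along weakly étale maps
-/

universe u

open CategoryTheory CategoryTheory.Limits

attribute [local instance] HasDerivedCategory.standard

set_option linter.unusedSectionVars false

noncomputable section

namespace Groth.Agent.FlatCrit65

open DR39

variable {A B : Type u} [CommRing A] [CommRing B] [Algebra A B]

theorem flat_restrict_obj [Module.Flat A B] (M : ModuleCat.{u} B) (h : Module.Flat B M) :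
    Module.Flat A ((ModuleCat.restrictScalars (algebraMap A B)).obj M) := by
  let : Module A M := Module.compHom M (algebraMap A B)
  have : IsScalarTower A B M := IsScalarTower.of_algebraMap_smul fun _ _ => rfl
  exact Module.Flat.trans A B M

theorem ta_restrict_of_flat [Module.Flat A B] {a b : ℤ} {K : Dual.D B} (h : TA a b K) :
    TA a b ((DRing.restrictD (algebraMap A B)).obj K) := by
  obtain ⟨E, hv, hE, ⟨e⟩⟩ := h
  exact TA.of_iso ⟨(DRing.restrictCx (algebraMap A B)).obj E,
    fun i hi => (ModuleCat.restrictScalars (algebraMap A B)).map_isZero (hv i hi),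
    fun i => flat_restrict_obj _ (hE i), ⟨Iso.refl _⟩⟩
    ((restrictDIso (algebraMap A B) E).symm ≪≫ (DRing.restrictD (algebraMap A B)).mapIso e)

theorem isZero_homology_restrict_iff (E : DRing.Cx B) (i : ℤ) :
    IsZero (((DRing.restrictCx (algebraMap A B)).obj E).homology i) ↔ IsZero (E.homology i) :=
  (isZero_homology_iff _ i).trans (isZero_homology_iff E i).symm

theorem acyc_of_restrict {m : ℤ} {K : Dual.D B} (h : Acyc m ((DRing.restrictD (algebraMap A B)).obj K)) :
    Acyc m K := by
  intro i hi
  let E := (QA B).objPreimage K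
  let e : (QA B).obj E ≅ K := (QA B).objObjPreimageIso K
  refine IsZero.of_iso ((isZero_HF_Q_iff E i).2 ((isZero_homology_restrict_iff (A := A) E i).1 ?_))
    ((HF B i).mapIso e.symm)
  exact (isZero_HF_Q_iff _ i).1 (IsZero.of_iso (h i hi)
    ((HF A i).mapIso ((restrictDIso (algebraMap A B) E).symm ≪≫ (DRing.restrictD (algebraMap A B)).mapIso e)))

/-- Tor amplitude descends to the target of a weakly étale map. -/
theorem ta_of_restrict [Algebra.WeaklyEtale A B] {a b : ℤ} {K : Dual.D B}
    (h : TA a b ((DRing.restrictD (algebraMap A B)).obj K)) : TA a b K := by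
  have hfl : Module.Flat A B := inferInstance
  obtain ⟨F, hFv, hF, ⟨f⟩⟩ := rep_free_of_acyc (acyc_of_restrict (TA.acyc h))
  let F' := (DRing.restrictCx (algebraMap A B)).obj F
  have hFF : ∀ i, Module.Flat B (F.X i) := fun i => flat_of_FR (hF i)
  have hF' : ∀ i, Module.Flat A (F'.X i) := fun i => flat_restrict_obj _ (hFF i)
  have hvb := (vanishesAbove_iff F b).2 hFv
  have hlow : LowEx F' a := TA.lowEx h
    (isKFlat_of_flat b (fun i hi => (ModuleCat.restrictScalars _).map_isZero (hvb i hi)) hF')
    ((restrictDIso (algebraMap A B) F).symm ≪≫ (DRing.restrictD (algebraMap A B)).mapIso f)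
  have : F.IsGE a := by
    rw [CochainComplex.isGE_iff]
    intro i hi
    rw [HomologicalComplex.exactAt_iff_isZero_homology, ← isZero_homology_restrict_iff (A := A)]
    exact (exT_self_iff F' i).1 (exT_of_lowEx hlow _ hi)
  have hcok : Module.Flat B ((F.X a) ⧸ LinearMap.range (F.d (a - 1) a).hom) := by
    have := hF' a
    have h1 := flat_coker F' a fun M => exT_of_lowEx hlow M (by omega)
    let : Module A (F.X a) := Module.compHom (F.X a) (algebraMap A B)
    have : IsScalarTower A B (F.X a) := IsScalarTower.of_algebraMap_smul fun _ _ => rfl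
    have h2 : Module.Flat A ((F.X a) ⧸ (LinearMap.range (F.d (a - 1) a).hom).restrictScalars A) := h1
    have := Module.Flat.of_linearEquiv
      (Submodule.Quotient.restrictScalarsEquiv A (LinearMap.range (F.d (a - 1) a).hom)).symm
    exact FlatMor67.flat_of_flat_lmul' (Algebra.WeaklyEtale.flat_lmul' A B) _
  exact ⟨F.truncGE a, vanishesOutside_truncGE F a b hvb,
    cls_truncGE isModClass_FL F a (fun i _ => hFF i) hcok,
    ⟨(asIso ((QA B).map (F.πTruncGE a))).symm ≪≫ f⟩⟩

end Groth.Agent.FlatCrit65
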