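import Groth.Agent.FlatCrit65.Descent
import Mathlib.RingTheory.IsTensorProduct
import Mathlib.RingTheory.Ideal.Quotient.Operations
import Mathlib.RingTheory.Artinian.Module

/-!
The largest flattening quotient over an Artinian ring.
-/

universe u

open TensorProduct

namespace Groth.Agent.FlatCrit65

variable {A : Type u} [CommRing A] (N : Type u) [AddCommGroup N] [Module A N]

/-- `N ⊗ A / I` is flat over `A / I`. -/
def FlatMod' (I : Ideal A) : Prop := Module.Flat (A ⧸ I) ((A ⧸ I) ⊗[A] N)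

lemma flat_of_algHom {A' : Type u} [CommRing A'] [Algebra A A'] {A'' : Type u} [CommRing A'']
    [Algebra A A''] (g : A' →ₐ[A] A'') [Module.Flat A' (A' ⊗[A] N)] :
    Module.Flat A'' (A'' ⊗[A] N) := by
  let inst : Algebra A' A'' := g.toRingHom.toAlgebra
  have : IsScalarTower A A' A'' := IsScalarTower.of_algebraMap_eq' g.comp_algebraMap.symm
  have : Module.Flat A'' (A'' ⊗[A'] (A' ⊗[A] N)) := inferInstance
  exact Module.Flat.of_linearEquiv
    (AlgebraTensorModule.cancelBaseChange A A' A'' A'' N).symm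

lemma flatMod_top : FlatMod' N (⊤ : Ideal A) := by
  have : Subsingleton (A ⧸ (⊤ : Ideal A)) := Ideal.Quotient.subsingleton_iff.mpr rfl
  have : Subsingleton ((A ⧸ (⊤ : Ideal A)) ⊗[A] N) := Module.subsingleton (A ⧸ (⊤ : Ideal A)) _
  exact Module.Flat.of_free

lemma flatMod_inf [IsArtinianRing A] {I J : Ideal A} (hI : FlatMod' N I) (hJ : FlatMod' N J) :
    FlatMod' N (I ⊓ J) := by
  have : IsArtinianRing (A ⧸ I ⊓ J) :=
    Function.Surjective.isArtinianRing Ideal.Quotient.mk_surjective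
  let f : A ⧸ I ⊓ J →ₐ[A] A ⧸ I := Ideal.Quotient.factorₐ A inf_le_left
  let g : A ⧸ I ⊓ J →ₐ[A] A ⧸ J := Ideal.Quotient.factorₐ A inf_le_right
  let instI : Algebra (A ⧸ I ⊓ J) (A ⧸ I) := f.toRingHom.toAlgebra
  let instJ : Algebra (A ⧸ I ⊓ J) (A ⧸ J) := g.toRingHom.toAlgebra
  have tI : IsScalarTower A (A ⧸ I ⊓ J) (A ⧸ I) :=
    IsScalarTower.of_algebraMap_eq' f.comp_algebraMap.symm
  have tJ : IsScalarTower A (A ⧸ I ⊓ J) (A ⧸ J) :=
    IsScalarTower.of_algebraMap_eq' g.comp_algebraMap.symm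
  have hI' : Module.Flat (A ⧸ I) ((A ⧸ I) ⊗[A ⧸ I ⊓ J] ((A ⧸ I ⊓ J) ⊗[A] N)) := by
    have := hI
    unfold FlatMod' at this
    exact Module.Flat.of_linearEquiv (AlgebraTensorModule.cancelBaseChange A (A ⧸ I ⊓ J) _ _ N)
  have hJ' : Module.Flat (A ⧸ J) ((A ⧸ J) ⊗[A ⧸ I ⊓ J] ((A ⧸ I ⊓ J) ⊗[A] N)) := by
    have := hJ
    unfold FlatMod' at this
    exact Module.Flat.of_linearEquiv (AlgebraTensorModule.cancelBaseChange A (A ⧸ I ⊓ J) _ _ N)
  refine flat_of_jointly_injective (A ⧸ I) (A ⧸ J) ?_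
  intro r h1 h2
  obtain ⟨r, rfl⟩ := Ideal.Quotient.mk_surjective r
  exact Ideal.Quotient.eq_zero_iff_mem.mpr
    ⟨Ideal.Quotient.eq_zero_iff_mem.mp h1, Ideal.Quotient.eq_zero_iff_mem.mp h2⟩

theorem exists_universal [IsArtinianRing A] :
    ∃ I : Ideal A, ∀ (A' : Type u) [CommRing A'] [Algebra A A'],
      (Module.Flat A' (A' ⊗[A] N) ↔ I.map (algebraMap A A') = ⊥) := by
  obtain ⟨I, hI, hmin⟩ := WellFounded.has_min (IsWellFounded.wf (r := ((· < ·) : Ideal A → Ideal A → Prop)))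
    {I | FlatMod' N I} ⟨⊤, flatMod_top N⟩
  refine ⟨I, fun A' _ _ => ⟨fun h => ?_, fun h => ?_⟩⟩
  · let K := RingHom.ker (algebraMap A A')
    have : IsArtinianRing (A ⧸ K) :=
      Function.Surjective.isArtinianRing Ideal.Quotient.mk_surjective
    let g : A ⧸ K →ₐ[A] A' := Ideal.Quotient.liftₐ K (Algebra.ofId A A') (fun a ha => ha)
    let inst : Algebra (A ⧸ K) A' := g.toRingHom.toAlgebra
    have : IsScalarTower A (A ⧸ K) A' := IsScalarTower.of_algebraMap_eq' g.comp_algebraMap.symm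
    have : Module.Flat A' (A' ⊗[A ⧸ K] ((A ⧸ K) ⊗[A] N)) :=
      Module.Flat.of_linearEquiv (AlgebraTensorModule.cancelBaseChange A (A ⧸ K) _ _ N)
    have hK : FlatMod' N K := by
      refine flat_of_jointly_injective A' A' (fun r hr _ => ?_)
      obtain ⟨r, rfl⟩ := Ideal.Quotient.mk_surjective r
      exact Ideal.Quotient.eq_zero_iff_mem.mpr hr
    have hle : I ≤ K := by
      by_contra hc
      exact hmin (I ⊓ K) (flatMod_inf N hI hK) (lt_of_le_not_ge inf_le_left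
        fun hge => hc (hge.trans inf_le_right))
    exact (Ideal.map_eq_bot_iff_le_ker _).mpr hle
  · have hle := (Ideal.map_eq_bot_iff_le_ker _).mp h
    have := hI
    exact @flat_of_algHom A _ N _ _ (A ⧸ I) _ _ A' _ _
      (Ideal.Quotient.liftₐ I (Algebra.ofId A A') (fun a ha => hle ha)) this

end Groth.Agent.FlatCrit65
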